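import Cfsg.Agent.EqLemmas

/-!
# A `p`-subgroup `A` normalising a `p'`-subgroup `K` (conjugation inside one finite group)

Everything here follows from counting fixed points of a `p`-group on a set of size prime to `p`.

* `exists_fixed_mem`           – fixed point on a conjugation invariant set of size prime to `p`
* `exists_fixed_in_coset`      – a fixed coset of a `p'`-subgroup contains a fixed element
* `inf_centralizer_sup`        – `C_{XY}(A) ≤ C_X(A) C_Y(A)`
* `exists_invariant_sylow_ge`  – invariant `q`-subgroups lie in invariant Sylow `q`-subgroups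
* `exists_conj_invariant_sylow`– invariant Sylow subgroups are conjugate under `C_K(A)`
* `le_of_hyperplanes`          – `K = ⟨C_K(H) : H` of index `p` in `A⟩`
* `le_of_elements`             – `K = ⟨C_K(a) : a ≠ 1⟩` for noncyclic elementary abelian `A`
* `exists_inverted_of_not_fixed` – eigen-elements for elementary abelian 2-groups on odd groups
-/

set_option autoImplicit false

namespace Cfsg.Agent.Signalizer

open Subgroup
open scoped Pointwise

variable {G : Type*} [Group G] {p q : ℕ}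

/-! ## Elementary conversions -/

theorem mem_centralizer_iff_conj {A : Subgroup G} {x : G} :
    x ∈ centralizer (A : Set G) ↔ ∀ a ∈ A, a * x * a⁻¹ = x := by
  simp only [Subgroup.mem_centralizer_iff, SetLike.mem_coe, mul_inv_eq_iff_eq_mul]

theorem mem_centralizer_singleton_conj {a x : G} :
    x ∈ centralizer ({a} : Set G) ↔ a * x * a⁻¹ = x := by
  simp [Subgroup.mem_centralizer_iff, mul_inv_eq_iff_eq_mul]

theorem centralizer_le_singleton {A : Subgroup G} {a : G} (ha : a ∈ A) :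
    centralizer (A : Set G) ≤ centralizer {a} :=
  Subgroup.centralizer_le (Set.singleton_subset_iff.2 ha)

theorem conj_mem {A N : Subgroup G} (h : A ≤ normalizer (N : Set G)) {a x : G}
    (ha : a ∈ A) (hx : x ∈ N) : a * x * a⁻¹ ∈ N :=
  (mem_normalizer_iff.1 (h ha) x).1 hx

theorem le_normalizer_of_conj_mem {A N : Subgroup G}
    (h : ∀ a ∈ A, ∀ x ∈ N, a * x * a⁻¹ ∈ N) : A ≤ normalizer (N : Set G) := by
  intro a ha
  refine mem_normalizer_iff.2 fun x => ⟨h a ha x, fun hx => ?_⟩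
  have := h a⁻¹ (inv_mem ha) _ hx
  group at this
  simpa using this

theorem mem_map_conj {S : Subgroup G} {c x : G} :
    x ∈ S.map (MulAut.conj c).toMonoidHom ↔ c⁻¹ * x * c ∈ S := by
  simp only [Subgroup.mem_map_equiv]
  simp [MulAut.conj_symm_apply]

theorem le_normalizer_inf {A M N : Subgroup G} (hM : A ≤ normalizer (M : Set G))
    (hN : A ≤ normalizer (N : Set G)) : A ≤ normalizer ((M ⊓ N : Subgroup G) : Set G) :=
  le_normalizer_of_conj_mem fun _ ha _ hx => ⟨conj_mem hM ha hx.1, conj_mem hN ha hx.2⟩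

theorem le_normalizer_centralizer {A B : Subgroup G} (hB : A ≤ normalizer (B : Set G)) :
    A ≤ normalizer (centralizer (B : Set G) : Set G) := by
  refine le_normalizer_of_conj_mem fun a ha x hx => ?_
  rw [mem_centralizer_iff_conj] at hx ⊢
  intro b hb
  have h1 := hx _ (conj_mem hB (inv_mem ha) hb)
  calc b * (a * x * a⁻¹) * b⁻¹
      = a * ((a⁻¹ * b * a⁻¹⁻¹) * x * (a⁻¹ * b * a⁻¹⁻¹)⁻¹) * a⁻¹ := by group
    _ = a * x * a⁻¹ := by rw [h1]

theorem le_normalizer_of_commute {A B : Subgroup G} (h : ∀ a ∈ A, ∀ b ∈ B, a * b = b * a) :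
    A ≤ normalizer (B : Set G) :=
  le_normalizer_of_conj_mem fun a ha b hb => by
    have : a * b * a⁻¹ = b := by rw [h a ha b hb]; group
    rwa [this]

theorem le_normalizer_sup {A M N : Subgroup G} (hM : A ≤ normalizer (M : Set G))
    (hN : A ≤ normalizer (N : Set G)) : A ≤ normalizer ((M ⊔ N : Subgroup G) : Set G) := by
  refine le_normalizer_of_conj_mem fun a ha x hx => ?_
  have h1 : M ≤ (M ⊔ N).comap (MulAut.conj a).toMonoidHom := fun m hm =>
    le_sup_left (a := M) (b := N) (conj_mem hM ha hm)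
  have h2 : N ≤ (M ⊔ N).comap (MulAut.conj a).toMonoidHom := fun m hm =>
    le_sup_right (a := M) (b := N) (conj_mem hN ha hm)
  exact sup_le h1 h2 hx

theorem le_normalizer_iSup {ι : Sort*} {A : Subgroup G} {N : ι → Subgroup G}
    (hN : ∀ i, A ≤ normalizer (N i : Set G)) :
    A ≤ normalizer ((⨆ i, N i : Subgroup G) : Set G) := by
  refine le_normalizer_of_conj_mem fun a ha x hx => ?_
  have h1 : (⨆ i, N i) ≤ (⨆ i, N i).comap (MulAut.conj a).toMonoidHom :=
    iSup_le fun i m hm => le_iSup N i (conj_mem (hN i) ha hm)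
  exact h1 hx

theorem commute_of_isMulCommutative {A : Subgroup G} (hA : IsMulCommutative ↥A) {a b : G}
    (ha : a ∈ A) (hb : b ∈ A) : a * b = b * a :=
  congrArg Subtype.val (hA.is_comm.comm (⟨a, ha⟩ : A) ⟨b, hb⟩)

theorem isPGroup_of_elemAb {A : Subgroup G} (hA : Cfsg.IsElementaryAbelian p A) :
    IsPGroup p A := fun a => ⟨1, by
  rw [pow_one]; exact Subtype.ext (by simpa using hA.2 a a.2)⟩

theorem isPGroup_zpowers_of_pow_eq_one {z : G} (hz : z ^ p = 1) :
    IsPGroup p (zpowers z) := by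
  rintro ⟨_, n, rfl⟩
  refine ⟨1, Subtype.ext ?_⟩
  simp only [pow_one, SubmonoidClass.coe_pow, OneMemClass.coe_one]
  rw [← zpow_natCast, ← zpow_mul, mul_comm, zpow_mul, zpow_natCast, hz, one_zpow]

theorem not_dvd_card_of_le {H K : Subgroup G} (hle : H ≤ K) (hK : ¬ p ∣ Nat.card K) :
    ¬ p ∣ Nat.card H :=
  fun h => hK (h.trans (Subgroup.card_dvd_of_le hle))

/-! ## Fixed points -/

variable [Finite G]

theorem exists_fixed_mem [Fact p.Prime] {A : Subgroup G} (hA : IsPGroup p A) (S : Set G)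
    (hS : ¬ p ∣ Nat.card S) (h : ∀ a ∈ A, ∀ x ∈ S, a * x * a⁻¹ ∈ S) :
    ∃ x ∈ S, ∀ a ∈ A, a * x * a⁻¹ = x := by
  letI : MulAction A S :=
    { smul := fun a x => ⟨a * x * (a : G)⁻¹, h a a.2 x x.2⟩
      one_smul := fun x => Subtype.ext (by change (1 : G) * x * (1 : G)⁻¹ = x; group)
      mul_smul := fun a b x => Subtype.ext (by
        change (a * b : G) * x * (a * b : G)⁻¹ = a * (b * x * (b : G)⁻¹) * (a : G)⁻¹
        group) }
  obtain ⟨x, hx⟩ := hA.nonempty_fixed_point_of_prime_not_dvd_card S hS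
  exact ⟨x, x.2, fun a ha => congrArg Subtype.val (hx ⟨a, ha⟩)⟩

/-- A coset `N g` fixed by `A` contains a fixed element. -/
theorem exists_fixed_in_coset [Fact p.Prime] {A N : Subgroup G} (hA : IsPGroup p A)
    (hAN : A ≤ normalizer (N : Set G)) (hN : ¬ p ∣ Nat.card N) (g : G)
    (hg : ∀ a ∈ A, a * g * a⁻¹ * g⁻¹ ∈ N) :
    ∃ n ∈ N, n * g ∈ centralizer (A : Set G) := by
  have hcard : Nat.card ((fun n => n * g) '' (N : Set G)) = Nat.card N :=
    Nat.card_image_of_injective (mul_left_injective g) _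
  obtain ⟨x, ⟨n, hn, rfl⟩, hx⟩ := exists_fixed_mem hA ((fun n => n * g) '' (N : Set G))
    (hcard ▸ hN) (by
      rintro a ha _ ⟨n, hn, rfl⟩
      exact ⟨(a * n * a⁻¹) * (a * g * a⁻¹ * g⁻¹), mul_mem (conj_mem hAN ha hn) (hg a ha),
        by group⟩)
  exact ⟨n, hn, mem_centralizer_iff_conj.2 hx⟩

/-- `C_{XY}(A) ≤ C_X(A) C_Y(A)` when `Y` normalises `X`. -/
theorem inf_centralizer_sup [Fact p.Prime] {A X Y : Subgroup G} (hA : IsPGroup p A)
    (hAX : A ≤ normalizer (X : Set G)) (hAY : A ≤ normalizer (Y : Set G))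
    (hYX : Y ≤ normalizer (X : Set G)) (hp : ¬ p ∣ Nat.card ↥(X ⊓ Y)) :
    (X ⊔ Y) ⊓ centralizer (A : Set G) ≤
      (X ⊓ centralizer (A : Set G)) ⊔ (Y ⊓ centralizer (A : Set G)) := by
  rintro g ⟨hg, hgA⟩
  have hg' : g ∈ (X : Set G) * (Y : Set G) := by
    rw [← Subgroup.coe_mul_of_right_le_normalizer_left X Y hYX]; exact hg
  obtain ⟨x, hx, y, hy, rfl⟩ := hg'
  have hfix := mem_centralizer_iff_conj.1 hgA
  obtain ⟨n, hn, hny⟩ := exists_fixed_in_coset hA (le_normalizer_inf hAX hAY) hp y (by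
    intro a ha
    have h0 : a * (x * y) * a⁻¹ = x * y := hfix a ha
    refine ⟨?_, Y.mul_mem (conj_mem hAY ha hy) (Y.inv_mem hy)⟩
    have : a * y * a⁻¹ * y⁻¹ = (a * x * a⁻¹)⁻¹ * x := by
      calc a * y * a⁻¹ * y⁻¹ = (a * x * a⁻¹)⁻¹ * (a * (x * y) * a⁻¹) * y⁻¹ := by group
        _ = (a * x * a⁻¹)⁻¹ * (x * y) * y⁻¹ := by rw [h0]
        _ = _ := by group
    rw [this]; exact X.mul_mem (X.inv_mem (conj_mem hAX ha hx)) hx)
  have hxn : x * n⁻¹ ∈ centralizer (A : Set G) := by
    have : x * n⁻¹ = (x * y) * (n * y)⁻¹ := by group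
    rw [this]; exact Subgroup.mul_mem _ hgA (Subgroup.inv_mem _ hny)
  have : x * y = (x * n⁻¹) * (n * y) := by group
  change x * y ∈ _
  rw [this]
  exact mul_mem_sup ⟨X.mul_mem hx (X.inv_mem hn.1), hxn⟩ ⟨Y.mul_mem hn.2 hy, hny⟩

/-- `C_{XY}(a) ≤ C_X(a) C_Y(a)` for a single `p`-element. -/
theorem inf_centralizer_singleton_sup [Fact p.Prime] {a : G} {X Y : Subgroup G} (ha : a ^ p = 1)
    (haX : a ∈ normalizer (X : Set G)) (haY : a ∈ normalizer (Y : Set G))
    (hYX : Y ≤ normalizer (X : Set G)) (hp : ¬ p ∣ Nat.card ↥(X ⊓ Y)) :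
    (X ⊔ Y) ⊓ centralizer ({a} : Set G) ≤
      (X ⊓ centralizer ({a} : Set G)) ⊔ (Y ⊓ centralizer ({a} : Set G)) := by
  have h : centralizer ({a} : Set G) = centralizer (zpowers a : Set G) := by
    rw [zpowers_eq_closure, Subgroup.centralizer_closure]
  rw [h]
  exact inf_centralizer_sup (isPGroup_zpowers_of_pow_eq_one ha) (zpowers_le.2 haX)
    (zpowers_le.2 haY) hYX hp

theorem mem_normalizer_of_conj_mem {S : Subgroup G} {m : G} (h : ∀ x ∈ S, m * x * m⁻¹ ∈ S) :
    m ∈ normalizer (S : Set G) := by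
  have hle : S.map (MulAut.conj m).toMonoidHom ≤ S := by
    rintro _ ⟨x, hx, rfl⟩; exact h x hx
  have heq : S.map (MulAut.conj m).toMonoidHom = S :=
    Subgroup.eq_of_le_of_card_ge hle
      (Subgroup.card_map_of_injective (MulAut.conj m).injective).ge
  refine mem_normalizer_iff.2 fun x => ⟨h x, fun hx => ?_⟩
  rw [← heq, mem_map_conj] at hx
  group at hx
  simpa using hx

/-! ## Invariant Sylow subgroups -/

omit [Finite G] in
/-- `S` is a Sylow `q`-subgroup of `K`, both viewed in `G`. -/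
def IsSylowIn (q : ℕ) (K S : Subgroup G) : Prop :=
  S ≤ K ∧ IsPGroup q S ∧ ¬ q ∣ S.relIndex K

theorem isSylowIn_of_sylow [Fact q.Prime] {K : Subgroup G} (s : Sylow q K) :
    IsSylowIn q K ((s : Subgroup K).map K.subtype) := by
  refine ⟨map_subtype_le _, s.isPGroup'.map _, ?_⟩
  rw [Subgroup.relIndex, Subgroup.subgroupOf,
    Subgroup.comap_map_eq_self_of_injective K.subtype_injective]
  exact s.not_dvd_index

theorem IsSylowIn.exists_sylow [Fact q.Prime] {K S : Subgroup G} (h : IsSylowIn q K S) :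
    ∃ s : Sylow q K, (s : Subgroup K).map K.subtype = S := by
  refine ⟨(h.2.1.comap_subtype (K := K)).toSylow h.2.2, ?_⟩
  exact Subgroup.map_subgroupOf_eq_of_le h.1

theorem IsSylowIn.eq_of_le [Fact q.Prime] {K S T : Subgroup G} (h : IsSylowIn q K S) (hST : S ≤ T)
    (hTK : T ≤ K) (hT : IsPGroup q T) : T = S := by
  obtain ⟨s, rfl⟩ := h.exists_sylow
  have : T.subgroupOf K = (s : Subgroup K) := s.is_maximal' (hT.comap_subtype (K := K))
    (fun x hx => hST ⟨x, hx, rfl⟩)
  rw [← this]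
  exact (Subgroup.map_subgroupOf_eq_of_le hTK).symm

theorem exists_invariant_sylow [Fact p.Prime] [Fact q.Prime] {A : Subgroup G} (hA : IsPGroup p A)
    (K : Subgroup G) (hK : ¬ p ∣ Nat.card K) (hAK : A ≤ normalizer (K : Set G)) :
    ∃ S, IsSylowIn q K S ∧ A ≤ normalizer (S : Set G) := by
  let f : A →* MulAut K := (normalizerMonoidHom K).comp (Subgroup.inclusion hAK)
  letI : MulAction A (Sylow q K) := MulAction.compHom _ f
  obtain ⟨s, hs⟩ := hA.nonempty_fixed_point_of_prime_not_dvd_card (Sylow q K) (fun h =>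
    hK ((h.trans (Sylow.card_dvd_index default)).trans (Subgroup.index_dvd_card _)))
  refine ⟨_, isSylowIn_of_sylow s, le_normalizer_of_conj_mem ?_⟩
  rintro a ha _ ⟨x, hx, rfl⟩
  have h2 : f ⟨a, ha⟩ • s = s := hs ⟨a, ha⟩
  have h1 : f ⟨a, ha⟩ • x ∈ ((f ⟨a, ha⟩ • s : Sylow q K) : Subgroup K) :=
    Subgroup.smul_mem_pointwise_smul x (f ⟨a, ha⟩) (s : Subgroup K) hx
  rw [h2] at h1
  exact ⟨_, h1, rfl⟩

/-- An `A`-invariant `q`-subgroup of `K` lies in an `A`-invariant Sylow `q`-subgroup of `K`. -/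
theorem exists_invariant_sylow_ge [Fact p.Prime] [Fact q.Prime] {A : Subgroup G}
    (hA : IsPGroup p A) {K R : Subgroup G} (hK : ¬ p ∣ Nat.card K)
    (hAK : A ≤ normalizer (K : Set G)) (hRK : R ≤ K) (hR : IsPGroup q R)
    (hAR : A ≤ normalizer (R : Set G)) :
    ∃ S, IsSylowIn q K S ∧ A ≤ normalizer (S : Set G) ∧ R ≤ S := by
  obtain ⟨T, ⟨hRT, hTK, hTq, hAT⟩, hmax⟩ := Set.Finite.exists_maximal
    (s := {T : Subgroup G | R ≤ T ∧ T ≤ K ∧ IsPGroup q T ∧ A ≤ normalizer (T : Set G)})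
    (Set.toFinite _) ⟨R, le_rfl, hRK, hR, hAR⟩
  refine ⟨T, ?_, hAT, hRT⟩
  obtain ⟨S, hS, hAS⟩ := exists_invariant_sylow (q := q) hA (normalizer (T : Set G) ⊓ K)
    (not_dvd_card_of_le inf_le_right hK)
    (le_normalizer_inf (hAT.trans le_normalizer) hAK)
  have hTN : T ≤ normalizer (T : Set G) ⊓ K := le_inf le_normalizer hTK
  have hTS : T ≤ S := by
    have h1 : IsPGroup q ↥(S ⊔ T) :=
      IsPGroup.to_sup_of_normal_right' hS.2.1 hTq (hS.1.trans inf_le_left)
    exact le_sup_right.trans (hS.eq_of_le le_sup_left (sup_le hS.1 hTN) h1).le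
  have hST : S = T :=
    le_antisymm (hmax ⟨hRT.trans hTS, hS.1.trans inf_le_right, hS.2.1, hAS⟩ hTS) hTS
  subst hST
  refine ⟨hTK, hTq, fun hdvd => ?_⟩
  -- otherwise a larger `q`-subgroup of `K` normalises `S`
  obtain ⟨s, hs⟩ := (hTq.comap_subtype (K := K)).exists_le_sylow
  set U : Subgroup G := (s : Subgroup K).map K.subtype with hU
  have hUS : S ≤ U := fun x hx => ⟨⟨x, hTK hx⟩, hs hx, rfl⟩
  have hUq : IsPGroup q U := s.isPGroup'.map _
  have hne : S.subgroupOf U ≠ ⊤ := by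
    intro h
    have hle : U ≤ S := Subgroup.subgroupOf_eq_top.1 h
    have heq : U = S := le_antisymm hle hUS
    exact (isSylowIn_of_sylow s).2.2 (show q ∣ U.relIndex K from heq ▸ hdvd)
  haveI := hUq.isNilpotent
  have hlt := Group.normalizerCondition_of_isNilpotent (S.subgroupOf U) hne.lt_top
  obtain ⟨x, hxN, hxS⟩ := SetLike.exists_of_lt hlt
  have hxn : (x : G) ∈ normalizer (S : Set G) := mem_normalizer_of_conj_mem fun y hy => by
    have := (mem_normalizer_iff.1 hxN ⟨y, hUS hy⟩).1 (by simpa [mem_subgroupOf] using hy)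
    simpa [mem_subgroupOf] using this
  have h1 : S ⊔ zpowers (x : G) ≤ U := sup_le hUS (zpowers_le.2 x.2)
  have h2 : S ⊔ zpowers (x : G) ≤ normalizer (S : Set G) ⊓ K :=
    sup_le hTN (zpowers_le.2 ⟨hxn, map_subtype_le _ x.2⟩)
  have h3 := hS.eq_of_le le_sup_left h2 (hUq.to_le h1)
  exact hxS (by
    rw [mem_subgroupOf, ← h3]
    exact le_sup_right (a := S) (mem_zpowers (x : G)))

/-- Two `A`-invariant Sylow `q`-subgroups of `K` are conjugate by an element of `C_K(A)`. -/
theorem exists_conj_invariant_sylow [Fact p.Prime] [Fact q.Prime] {A : Subgroup G}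
    (hA : IsPGroup p A) {K S₁ S₂ : Subgroup G} (hK : ¬ p ∣ Nat.card K)
    (hAK : A ≤ normalizer (K : Set G)) (h₁ : IsSylowIn q K S₁) (h₂ : IsSylowIn q K S₂)
    (hA₁ : A ≤ normalizer (S₁ : Set G)) (hA₂ : A ≤ normalizer (S₂ : Set G)) :
    ∃ c ∈ K, c ∈ centralizer (A : Set G) ∧ S₁.map (MulAut.conj c).toMonoidHom = S₂ := by
  obtain ⟨s₁, hs₁⟩ := h₁.exists_sylow
  obtain ⟨s₂, hs₂⟩ := h₂.exists_sylow
  obtain ⟨h₀, hh₀⟩ := MulAction.exists_smul_eq K s₁ s₂
  have hS : S₁.map (MulAut.conj (h₀ : G)).toMonoidHom = S₂ := by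
    rw [← hs₁, ← hs₂, ← hh₀]
    ext g
    simp only [Subgroup.mem_map]
    constructor
    · rintro ⟨_, ⟨x, hx, rfl⟩, rfl⟩
      exact ⟨MulAut.conj h₀ • x, Subgroup.smul_mem_pointwise_smul x (MulAut.conj h₀) _ hx, rfl⟩
    · rintro ⟨_, ⟨x, hx, rfl⟩, rfl⟩
      exact ⟨_, ⟨x, hx, rfl⟩, rfl⟩
  have hback : ∀ x ∈ S₂, (h₀ : G)⁻¹ * x * h₀ ∈ S₁ := fun x hx => mem_map_conj.1 (hS ▸ hx)
  have hforth : ∀ x ∈ S₁, (h₀ : G) * x * (h₀ : G)⁻¹ ∈ S₂ := fun x hx => hS ▸ ⟨x, hx, rfl⟩
  let M : Subgroup G := K ⊓ normalizer (S₂ : Set G)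
  have hcard : Nat.card ((fun n => n * (h₀ : G)) '' (M : Set G)) = Nat.card M :=
    Nat.card_image_of_injective (mul_left_injective (h₀ : G)) _
  obtain ⟨x, ⟨n, hn, rfl⟩, hx⟩ := exists_fixed_mem hA ((fun n => n * (h₀ : G)) '' (M : Set G))
    (hcard ▸ not_dvd_card_of_le inf_le_left hK) (by
      rintro a ha _ ⟨n, hn, rfl⟩
      refine ⟨(a * n * a⁻¹) * (a * h₀ * a⁻¹ * (h₀ : G)⁻¹), mul_mem
        ⟨conj_mem hAK ha hn.1, conj_mem (hA₂.trans le_normalizer) ha hn.2⟩ ⟨?_, ?_⟩, by group⟩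
      · exact K.mul_mem (conj_mem hAK ha h₀.2) (K.inv_mem h₀.2)
      · refine mem_normalizer_of_conj_mem fun y hy => ?_
        have h1 := conj_mem hA₁ (inv_mem ha) (hback y hy)
        have h2 := conj_mem hA₂ ha (hforth _ h1)
        have e : a * (h₀ : G) * a⁻¹ * (h₀ : G)⁻¹ * y * (a * h₀ * a⁻¹ * (h₀ : G)⁻¹)⁻¹ =
            a * (h₀ * (a⁻¹ * ((h₀ : G)⁻¹ * y * h₀) * a⁻¹⁻¹) * (h₀ : G)⁻¹) * a⁻¹ := by group
        rw [e]; exact h2)
  refine ⟨n * h₀, mul_mem hn.1 h₀.2, mem_centralizer_iff_conj.2 hx, ?_⟩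
  ext y
  rw [mem_map_conj]
  constructor
  · intro hy
    have := conj_mem (le_refl _) hn.2 (hforth _ hy)
    group at this
    simpa [zpow_neg_one] using this
  · intro hy
    have := hback _ (conj_mem (le_refl _) (inv_mem hn.2) hy)
    group at this ⊢
    exact this

/-! ## Generation by centralisers -/

theorem eq_top_of_fixed_abelian {V : Type*} [CommGroup V] [Finite V] [Fact p.Prime]
    (α β : MulAut V) (hc : Commute α β) (hα : α ^ p = 1) (hβ : β ^ p = 1)
    (hp : ¬ p ∣ Nat.card V) (W : Subgroup V)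
    (hW : ∀ γ : MulAut V, (γ = β ∨ ∃ i < p, γ = α * β ^ i) → ∀ v, γ v = v → v ∈ W) :
    W = ⊤ := by
  have hnorm : ∀ (γ : MulAut V), γ ^ p = 1 → ∀ v,
      γ (∏ i ∈ Finset.range p, (γ ^ i) v) = ∏ i ∈ Finset.range p, (γ ^ i) v := by
    intro γ hγ v
    rw [map_prod]
    have h1 := Finset.prod_range_succ (fun i => (γ ^ i) v) p
    have h2 := Finset.prod_range_succ' (fun i => (γ ^ i) v) p
    rw [h1] at h2
    simp only [hγ, pow_zero, MulAut.one_apply] at h2
    have h3 := mul_right_cancel h2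
    rw [h3]
    exact Finset.prod_congr rfl fun i _ => by rw [pow_succ']; rfl
  refine (eq_top_iff' W).2 fun v => ?_
  have hpow : v ^ p ∈ W := by
    have key : ∏ i ∈ Finset.range p, ∏ j ∈ Finset.range p, ((α * β ^ i) ^ j) v ∈ W := by
      refine Subgroup.prod_mem _ fun i hi => hW _ (Or.inr ⟨i, Finset.mem_range.1 hi, rfl⟩) _ ?_
      refine hnorm _ ?_ v
      rw [(hc.pow_right i).mul_pow, hα, ← pow_mul, mul_comm, pow_mul, hβ, one_pow, one_mul]
    rw [Finset.prod_comm] at key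
    have hp1 : 1 ≤ p := (Fact.out : p.Prime).one_lt.le
    rw [Finset.range_eq_Ico, Finset.prod_eq_prod_Ico_succ_bot hp1] at key
    simp only [pow_zero, MulAut.one_apply, Finset.prod_const, Nat.card_Ico, tsub_zero] at key
    refine (mul_mem_cancel_right (Subgroup.prod_mem _ fun j hj => ?_)).1 key
    rw [Finset.mem_Ico] at hj
    have e : ∀ i, ((α * β ^ i) ^ j) v = ((β ^ j) ^ i) ((α ^ j) v) := by
      intro i
      rw [(hc.pow_right i).mul_pow, ← pow_mul, ((hc.pow_pow j (i * j))).eq, ← pow_mul,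
        mul_comm j i]
      rfl
    rw [Finset.prod_congr rfl fun i _ => e i, ← Finset.range_eq_Ico]
    refine hW β (Or.inl rfl) _ ?_
    have hcop : j.Coprime (orderOf β) := by
      refine Nat.Coprime.coprime_dvd_right (orderOf_dvd_of_pow_eq_one hβ) ?_
      exact (((Fact.out : p.Prime).coprime_iff_not_dvd).2
        (Nat.not_dvd_of_pos_of_lt (by omega) hj.2)).symm
    obtain ⟨m, hm⟩ := exists_pow_eq_self_of_coprime hcop
    set w := ∏ i ∈ Finset.range p, ((β ^ j) ^ i) ((α ^ j) v) with hw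
    have hfix : (β ^ j) w = w := hnorm _ (by rw [← pow_mul, mul_comm, pow_mul, hβ, one_pow]) _
    have : ∀ m : ℕ, ((β ^ j) ^ m) w = w := by
      intro m
      induction m with
      | zero => rfl
      | succ m ih => rw [pow_succ, MulAut.mul_apply, hfix, ih]
    rw [← hm]
    exact this m
  have hcop : p.Coprime (orderOf v) :=
    ((Fact.out : p.Prime).coprime_iff_not_dvd).2 fun h => hp (h.trans (orderOf_dvd_natCard v))
  obtain ⟨m, hm⟩ := exists_pow_eq_self_of_coprime hcop
  rw [← hm]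
  exact pow_mem hpow m

omit [Finite G] in
theorem normalizer_le_normalizer_commutator (K : Subgroup G) :
    normalizer (K : Set G) ≤ normalizer ((⁅K, K⁆ : Subgroup G) : Set G) := by
  refine le_normalizer_of_conj_mem fun a ha x hx => ?_
  have hle : K.map (MulAut.conj a).toMonoidHom ≤ K := by
    rintro _ ⟨y, hy, rfl⟩; exact conj_mem le_rfl ha hy
  have h1 : (MulAut.conj a).toMonoidHom x ∈ (⁅K, K⁆).map (MulAut.conj a).toMonoidHom :=
    mem_map_of_mem _ hx
  rw [Subgroup.map_commutator] at h1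
  exact Subgroup.commutator_mono hle hle h1

/-- Functoriality of abelianization on automorphisms. -/
noncomputable def abelianizationAut (M : Type*) [Group M] :
    MulAut M →* MulAut (Abelianization M) where
  toFun e := e.abelianizationCongr
  map_one' := abelianizationCongr_refl
  map_mul' e f := (abelianizationCongr_trans f e).symm

omit [Finite G] in
theorem abelianizationAut_normalizer_apply (K : Subgroup G) {x : G}
    (hx : x ∈ normalizer (K : Set G)) (k : K) :
    abelianizationAut K (normalizerMonoidHom K ⟨x, hx⟩) (Abelianization.of k) =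
      Abelianization.of ⟨x * k * x⁻¹, conj_mem le_rfl hx k.2⟩ := rfl

theorem le_of_fixed_solvable [Fact p.Prime] {x y : G} (hxy : Commute x y) (hx : x ^ p = 1)
    (hy : y ^ p = 1) (W : Subgroup G) :
    ∀ (K : Subgroup G), Group.IsSolvable K → ¬ p ∣ Nat.card K → x ∈ normalizer (K : Set G) →
      y ∈ normalizer (K : Set G) →
      (∀ z, (z = y ∨ ∃ i < p, z = x * y ^ i) → K ⊓ centralizer ({z} : Set G) ≤ W) → K ≤ W := by
  intro K
  induction K using WellFoundedLT.induction with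
  | ind K ih =>
  intro hs hK hxK hyK hW
  by_cases hbot : K = ⊥
  · exact hbot ▸ bot_le
  haveI : Nontrivial K := nontrivial_iff_ne_bot _ |>.2 hbot
  have hMle : ⁅K, K⁆ ≤ K := Subgroup.commutator_le_self K
  have hM : (commutator K).map K.subtype = ⁅K, K⁆ := Subgroup.map_subtype_commutator K
  have hlt : ⁅K, K⁆ < K := by
    refine lt_of_le_of_ne hMle fun h => ?_
    have h1 : (commutator K).map K.subtype = (⊤ : Subgroup K).map K.subtype := by
      rw [hM, h, ← MonoidHom.range_eq_map, K.range_subtype]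
    exact (Group.IsSolvable.commutator_lt_top_of_nontrivial (G := K)).ne
      (Subgroup.map_injective K.subtype_injective h1)
  haveI := hs
  have hMW : ⁅K, K⁆ ≤ W := ih _ hlt
    (Group.isSolvable_of_isSolvable_injective (Subgroup.inclusion_injective hMle))
    (not_dvd_card_of_le hMle hK) (normalizer_le_normalizer_commutator K hxK)
    (normalizer_le_normalizer_commutator K hyK)
    fun z hz => (inf_le_inf_right _ hMle).trans (hW z hz)
  let f := (abelianizationAut K).comp (normalizerMonoidHom K)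
  have htop : (W.subgroupOf K).map Abelianization.of = ⊤ := by
    refine eq_top_of_fixed_abelian (p := p) (f ⟨x, hxK⟩) (f ⟨y, hyK⟩) ?_ ?_ ?_ ?_ _ ?_
    · exact Commute.map (Subtype.ext hxy.eq) f
    · rw [← map_pow]
      exact (congrArg f (Subtype.ext (by simpa using hx))).trans f.map_one
    · rw [← map_pow]
      exact (congrArg f (Subtype.ext (by simpa using hy))).trans f.map_one
    · exact fun h => hK (h.trans (Subgroup.card_quotient_dvd_card _))
    · intro γ hγ v hv
      obtain ⟨z, hzK, hzp, hz, rfl⟩ : ∃ (z : G) (hzK : z ∈ normalizer (K : Set G)),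
          z ^ p = 1 ∧ (z = y ∨ ∃ i < p, z = x * y ^ i) ∧ γ = f ⟨z, hzK⟩ := by
        rcases hγ with rfl | ⟨i, hi, rfl⟩
        · exact ⟨y, hyK, hy, Or.inl rfl, rfl⟩
        · refine ⟨x * y ^ i, mul_mem hxK (pow_mem hyK i), ?_, Or.inr ⟨i, hi, rfl⟩, ?_⟩
          · rw [(hxy.pow_right i).mul_pow, hx, ← pow_mul, mul_comm i, pow_mul, hy, one_pow,
              one_mul]
          · rw [← map_pow, ← map_mul]; rfl
      obtain ⟨k, rfl⟩ : ∃ k : K, Abelianization.of k = v := QuotientGroup.mk_surjective v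
      have hfixall : ∀ a ∈ zpowers z, a * k * a⁻¹ * (k : G)⁻¹ ∈ ⁅K, K⁆ := by
        intro a ha
        have haK : a ∈ normalizer (K : Set G) := zpowers_le.2 hzK ha
        obtain ⟨n, hn⟩ := ha
        have hst : f ⟨z, hzK⟩ ∈ MulAction.stabilizer (MulAut (Abelianization K))
            (Abelianization.of k) := hv
        have hfa : f ⟨a, haK⟩ (Abelianization.of k) = Abelianization.of k := by
          have := zpow_mem hst n
          rw [← map_zpow] at this
          rwa [show (⟨a, haK⟩ : normalizer (K : Set G)) = ⟨z, hzK⟩ ^ n from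
            Subtype.ext (by simpa using hn.symm)]
        rw [MonoidHom.comp_apply, abelianizationAut_normalizer_apply] at hfa
        rw [← hM]
        refine ⟨_, (QuotientGroup.eq_iff_div_mem).1 hfa, ?_⟩
        simp [div_eq_mul_inv]
      obtain ⟨n, hn, hnk⟩ := exists_fixed_in_coset (isPGroup_zpowers_of_pow_eq_one hzp)
        ((zpowers_le.2 hzK).trans (normalizer_le_normalizer_commutator K))
        (not_dvd_card_of_le hMle hK) (k : G) hfixall
      have hnkW : n * k ∈ W := hW z hz ⟨mul_mem (hMle hn) k.2,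
        centralizer_le_singleton (mem_zpowers z) hnk⟩
      have hkW : (k : G) ∈ W := by
        simpa using mul_mem (inv_mem (hMW hn)) hnkW
      exact ⟨k, hkW, rfl⟩
  intro k hk
  obtain ⟨w, hw, hweq⟩ := htop.ge (mem_top (Abelianization.of (⟨k, hk⟩ : K)))
  have hc : ((w : G)⁻¹ * k) ∈ ⁅K, K⁆ := by
    rw [← hM]
    exact ⟨_, QuotientGroup.eq.1 hweq, rfl⟩
  simpa using mul_mem (show (w : G) ∈ W from hw) (hMW hc)

theorem le_of_fixed [Fact p.Prime] {x y : G} (hxy : Commute x y) (hx : x ^ p = 1)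
    (hy : y ^ p = 1) (W K : Subgroup G) (hK : ¬ p ∣ Nat.card K) (hxK : x ∈ normalizer (K : Set G))
    (hyK : y ∈ normalizer (K : Set G))
    (hW : ∀ z, (z = y ∨ ∃ i < p, z = x * y ^ i) → K ⊓ centralizer ({z} : Set G) ≤ W) : K ≤ W := by
  let E : Subgroup G := closure {x, y}
  have hgen : ∀ u ∈ ({x, y} : Set G), ∀ v ∈ ({x, y} : Set G), u * v = v * u := by
    rintro u (rfl | rfl) v (rfl | rfl) <;> first | rfl | exact hxy.eq | exact hxy.symm.eq
  haveI hEc : IsMulCommutative E := Subgroup.isMulCommutative_closure hgen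
  have hEel : ∀ a ∈ E, a ^ p = 1 := by
    intro a ha
    induction ha using Subgroup.closure_induction with
    | mem u hu => rcases hu with rfl | rfl <;> assumption
    | one => exact one_pow p
    | mul u v hu hv h1 h2 =>
      rw [(show Commute u v from commute_of_isMulCommutative hEc hu hv).mul_pow, h1, h2, one_mul]
    | inv u _ h1 => rw [inv_pow, h1, inv_one]
  have hEp : IsPGroup p E := isPGroup_of_elemAb ⟨hEc, hEel⟩
  have hEK : E ≤ normalizer (K : Set G) :=
    (closure_le _).2 (by rintro u (rfl | rfl) <;> assumption)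
  suffices h : K ≤ W ⊓ K from h.trans inf_le_left
  refine (Subgroup.eq_of_le_of_card_ge inf_le_right (Nat.le_of_dvd Nat.card_pos ?_)).ge
  rw [← Nat.factorization_le_iff_dvd Nat.card_pos.ne' Nat.card_pos.ne', Finsupp.le_def]
  intro r
  by_cases hr : r.Prime
  swap
  · simp [Nat.factorization_eq_zero_of_not_prime _ hr]
  haveI := Fact.mk hr
  obtain ⟨S, hS, hES⟩ := exists_invariant_sylow (q := r) hEp K hK hEK
  have hSW : S ≤ W ⊓ K := by
    haveI := hS.2.1.isNilpotent
    refine le_inf (le_of_fixed_solvable hxy hx hy W S inferInstance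
      (not_dvd_card_of_le hS.1 hK) (hES (subset_closure (by simp)))
      (hES (subset_closure (by simp)))
      fun z hz => (inf_le_inf_right _ hS.1).trans (hW z hz)) hS.1
  obtain ⟨s, hs⟩ := hS.exists_sylow
  have hc : Nat.card S = r ^ (Nat.card K).factorization r := by
    rw [← hs, Subgroup.card_map_of_injective K.subtype_injective, s.card_eq_multiplicity]
  exact (hr.pow_dvd_iff_le_factorization Nat.card_pos.ne').1
    (hc ▸ Subgroup.card_dvd_of_le hSW)

theorem relIndex_eq_prime [Fact p.Prime] {A H : Subgroup G} (hA : Cfsg.IsElementaryAbelian p A)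
    (hHA : H ≤ A) {x : G} (hx : x ∈ A) (hxH : x ∉ H) (hgen : A ≤ H ⊔ zpowers x) :
    H.relIndex A = p := by
  haveI := hA.1
  set H' : Subgroup A := H.subgroupOf A with hH'
  haveI : H'.Normal := Subgroup.normal_of_comm _
  let x' : A := ⟨x, hx⟩
  have hord : orderOf (QuotientGroup.mk' H' x') = p := by
    apply orderOf_eq_prime
    · rw [← map_pow, show x' ^ p = 1 from Subtype.ext (by simpa using hA.2 x hx), map_one]
    · rw [Ne, QuotientGroup.mk'_apply, QuotientGroup.eq_one_iff]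
      exact hxH
  have htop : zpowers (QuotientGroup.mk' H' x') = ⊤ := by
    rw [eq_top_iff]
    intro u _
    obtain ⟨a, rfl⟩ := QuotientGroup.mk'_surjective H' u
    have h1 : A ≤ (H' ⊔ zpowers x').map A.subtype := by
      rw [Subgroup.map_sup, hH', Subgroup.map_subgroupOf_eq_of_le hHA, MonoidHom.map_zpowers]
      exact hgen
    obtain ⟨b, hb, hba⟩ := h1 a.2
    obtain rfl : b = a := Subtype.ext hba
    have h2 : QuotientGroup.mk' H' b ∈ (H' ⊔ zpowers x').map (QuotientGroup.mk' H') :=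
      mem_map_of_mem _ hb
    rw [Subgroup.map_sup, QuotientGroup.map_mk'_self, bot_sup_eq, MonoidHom.map_zpowers] at h2
    exact h2
  change H'.index = p
  rw [Subgroup.index_eq_card, ← Subgroup.card_top, ← htop, Nat.card_zpowers, hord]

theorem le_of_hyperplanes [Fact p.Prime] {A : Subgroup G} (hA : Cfsg.IsElementaryAbelian p A)
    (hA1 : A ≠ ⊥) (W K : Subgroup G) (hK : ¬ p ∣ Nat.card K)
    (hAK : A ≤ normalizer (K : Set G))
    (hW : ∀ H : Subgroup G, H ≤ A → H.relIndex A = p →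
      K ⊓ centralizer (H : Set G) ≤ W) : K ≤ W := by
  suffices h : ∀ H : Subgroup G, H ≤ A → H ≠ A → K ⊓ centralizer (H : Set G) ≤ W by
    refine le_trans ?_ (h ⊥ bot_le (Ne.symm hA1))
    refine le_inf le_rfl fun x _ => ?_
    simp [Subgroup.mem_centralizer_iff]
  intro H
  induction H using WellFoundedGT.induction with
  | ind H ih =>
  intro hHA hne
  by_cases hi : H.relIndex A = p
  · exact hW H hHA hi
  obtain ⟨x, hxA, hxH⟩ := SetLike.exists_of_lt (lt_of_le_of_ne hHA hne)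
  obtain ⟨y, hyA, hyH⟩ : ∃ y ∈ A, y ∉ H ⊔ zpowers x := by
    by_contra hcon
    push Not at hcon
    exact hi (relIndex_eq_prime hA hHA hxA hxH hcon)
  have hxy : Commute x y := commute_of_isMulCommutative hA.1 hxA hyA
  have hnorm : A ≤ normalizer ((K ⊓ centralizer (H : Set G) : Subgroup G) : Set G) :=
    le_normalizer_inf hAK (le_normalizer_centralizer (le_normalizer_of_commute fun a ha b hb =>
      commute_of_isMulCommutative hA.1 ha (hHA hb)))
  refine le_of_fixed hxy (hA.2 x hxA) (hA.2 y hyA) W _ (not_dvd_card_of_le inf_le_left hK)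
    (hnorm hxA) (hnorm hyA) fun z hz => ?_
  have hz' : z ∈ A ∧ z ∉ H := by
    rcases hz with rfl | ⟨i, hi', rfl⟩
    · exact ⟨hyA, fun h => hyH (le_sup_left (b := zpowers x) h)⟩
    refine ⟨mul_mem hxA (pow_mem hyA i), fun h => ?_⟩
    rcases Nat.eq_zero_or_pos i with rfl | hpos
    · exact hxH (by simpa using h)
    apply hyH
    have hcop : i.Coprime (orderOf y) := by
      refine Nat.Coprime.coprime_dvd_right (orderOf_dvd_of_pow_eq_one (hA.2 y hyA)) ?_
      exact (((Fact.out : p.Prime).coprime_iff_not_dvd).2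
        (Nat.not_dvd_of_pos_of_lt hpos hi')).symm
    obtain ⟨m, hm⟩ := exists_pow_eq_self_of_coprime hcop
    have h2 : y ^ i ∈ H ⊔ zpowers x := by
      have := mul_mem (inv_mem (le_sup_right (a := H) (mem_zpowers x)))
        (le_sup_left (b := zpowers x) h)
      simpa using this
    rw [← hm]
    exact pow_mem h2 m
  have hlt : H < H ⊔ zpowers z := lt_of_le_of_ne le_sup_left fun h =>
    hz'.2 (h ▸ le_sup_right (a := H) (mem_zpowers z))
  refine le_trans ?_ (ih _ hlt (sup_le hHA (zpowers_le.2 hz'.1)) fun h => hi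
    (relIndex_eq_prime hA hHA hz'.1 hz'.2 h.ge))
  rintro u ⟨⟨huK, huH⟩, huz⟩
  refine ⟨huK, ?_⟩
  rw [← Subgroup.closure_eq H, zpowers_eq_closure, ← Subgroup.closure_union,
    Subgroup.centralizer_closure]
  refine Subgroup.mem_centralizer_iff.2 ?_
  rintro g (hg | rfl)
  · exact Subgroup.mem_centralizer_iff.1 huH g hg
  · exact Subgroup.mem_centralizer_iff.1 huz g rfl

omit [Finite G] in
theorem ne_bot_of_pow_le [Fact p.Prime] {A : Subgroup G} {n : ℕ} (hn : n ≠ 0)
    (h : p ^ n ≤ Nat.card A) : A ≠ ⊥ := by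
  rintro rfl
  rw [Subgroup.card_bot] at h
  exact absurd h (not_le.2 (Nat.one_lt_pow hn (Fact.out : p.Prime).one_lt))

/-- A hyperplane of `A` has the expected order. -/
theorem card_hyperplane_mul {A H : Subgroup G} (hHA : H ≤ A) (hi : H.relIndex A = p) :
    Nat.card H * p = Nat.card A := by
  rw [← hi, ← Subgroup.relIndex_bot_left, ← Subgroup.relIndex_bot_left,
    Subgroup.relIndex_mul_relIndex _ _ _ bot_le hHA]

theorem exists_ne_one_mem_hyperplane [Fact p.Prime] {A H : Subgroup G} (hHA : H ≤ A)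
    (hA2 : p ^ 2 ≤ Nat.card A) (hi : H.relIndex A = p) : ∃ a ∈ H, a ≠ 1 := by
  by_contra hcon
  push Not at hcon
  have hb : H = ⊥ := (Subgroup.eq_bot_iff_forall H).2 hcon
  subst hb
  have := card_hyperplane_mul hHA hi
  rw [Subgroup.card_bot, one_mul] at this
  have hp := (Fact.out : p.Prime).one_lt
  nlinarith

theorem le_of_elements [Fact p.Prime] {A : Subgroup G} (hA : Cfsg.IsElementaryAbelian p A)
    (hA2 : p ^ 2 ≤ Nat.card A) (W K : Subgroup G) (hK : ¬ p ∣ Nat.card K)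
    (hAK : A ≤ normalizer (K : Set G))
    (hW : ∀ a ∈ A, a ≠ 1 → K ⊓ centralizer ({a} : Set G) ≤ W) : K ≤ W := by
  refine le_of_hyperplanes hA (ne_bot_of_pow_le two_ne_zero hA2) W K hK hAK fun H hHA hi => ?_
  obtain ⟨a, haH, ha1⟩ := exists_ne_one_mem_hyperplane hHA hA2 hi
  exact le_trans (inf_le_inf_left _ (centralizer_le_singleton haH)) (hW a (hHA haH) ha1)

/-! ## Eigen-elements -/

/-- An elementary abelian 2-group `A` on an odd group `K`: if `k ∈ A` does not centralise `K`, some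
nontrivial element of `K` is inverted by `k`, and every element of `A` fixes or inverts it. -/
theorem exists_inverted_of_not_fixed {A K : Subgroup G} (hA : Cfsg.IsElementaryAbelian 2 A)
    (hK : ¬ 2 ∣ Nat.card K) (hAK : A ≤ normalizer (K : Set G)) {k : G} (hk : k ∈ A)
    (hne : ¬ K ≤ centralizer ({k} : Set G)) :
    ∃ w ∈ K, w ≠ 1 ∧ k * w * k⁻¹ = w⁻¹ ∧ ∀ a ∈ A, a * w * a⁻¹ = w ∨ a * w * a⁻¹ = w⁻¹ := by
  have hA1 : A ≠ ⊥ := by
    rintro rfl
    obtain rfl := (Subgroup.mem_bot.1 hk)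
    exact hne fun x _ => mem_centralizer_singleton_conj.2 (by group)
  obtain ⟨H, hHA, hi, hnle⟩ : ∃ H : Subgroup G, H ≤ A ∧ H.relIndex A = 2 ∧
      ¬ K ⊓ centralizer (H : Set G) ≤ centralizer ({k} : Set G) := by
    by_contra hcon
    push Not at hcon
    exact hne (le_of_hyperplanes hA hA1 _ K hK hAK hcon)
  obtain ⟨z, ⟨hzK, hzH⟩, hzk⟩ := SetLike.not_le_iff_exists.1 hnle
  have hzH' := mem_centralizer_iff_conj.1 hzH
  have hkk : k * k = 1 := by simpa [pow_two] using hA.2 k hk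
  have hkinv : k⁻¹ = k := inv_eq_of_mul_eq_one_right hkk
  have hkH : k ∉ H := fun h => hzk (mem_centralizer_singleton_conj.2 (hzH' k h))
  refine ⟨z⁻¹ * (k * z * k⁻¹), mul_mem (inv_mem hzK) (conj_mem hAK hk hzK), fun h => ?_, ?_, ?_⟩
  · exact hzk (mem_centralizer_singleton_conj.2 (inv_mul_eq_one.1 h).symm)
  · calc k * (z⁻¹ * (k * z * k⁻¹)) * k⁻¹
        = (k * z * k⁻¹)⁻¹ * (k * k) * z * (k * k)⁻¹ := by group
      _ = _ := by rw [hkk]; group
  · intro a ha
    have hfix : ∀ b ∈ H, b * (z⁻¹ * (k * z * k⁻¹)) * b⁻¹ = z⁻¹ * (k * z * k⁻¹) := by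
      intro b hb
      have hbk := commute_of_isMulCommutative hA.1 (hHA hb) hk
      calc b * (z⁻¹ * (k * z * k⁻¹)) * b⁻¹
          = (b * z * b⁻¹)⁻¹ * ((b * k) * z * (b * k)⁻¹) := by group
        _ = (b * z * b⁻¹)⁻¹ * (k * (b * z * b⁻¹) * k⁻¹) := by rw [hbk]; group
        _ = _ := by rw [hzH' b hb]
    by_cases haH : a ∈ H
    · exact Or.inl (hfix a haH)
    · refine Or.inr ?_
      have hb : a * k ∈ H := by
        have h2 := @Subgroup.mul_mem_iff_of_index_two A _ (H.subgroupOf A) hi ⟨a, ha⟩ ⟨k, hk⟩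
        simp only [mem_subgroupOf] at h2
        exact h2.2 (iff_of_false haH hkH)
      set w := z⁻¹ * (k * z * k⁻¹) with hw
      have h1 : k * w * k⁻¹ = w⁻¹ := by
        calc k * (z⁻¹ * (k * z * k⁻¹)) * k⁻¹
            = (k * z * k⁻¹)⁻¹ * (k * k) * z * (k * k)⁻¹ := by group
          _ = _ := by rw [hkk, hw]; group
      calc a * w * a⁻¹ = (a * k) * (k⁻¹ * w * k⁻¹⁻¹) * (a * k)⁻¹ := by group
        _ = (a * k) * (k * w * k⁻¹) * (a * k)⁻¹ := by simp only [hkinv]
        _ = (a * k) * w⁻¹ * (a * k)⁻¹ := by rw [h1]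
        _ = ((a * k) * w * (a * k)⁻¹)⁻¹ := by group
        _ = w⁻¹ := by rw [hfix _ hb]

end Cfsg.Agent.Signalizer
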