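import Cfsg.Agent.Lib.Signalizer.Constrained
import Cfsg.Agent.Lib.Cores.Basic

/-!
# The subgroups `O_{p'}(C(a))`

* `core_le_centralizer`, `not_dvd_card_core`, `centralizer_le_normalizer_core`, `invariant_core`
* `core_inf_centralizer_le_core`: balance when `C(b)` is `p`-constrained
* `isSolvableSignalizerFunctor_core`
-/

set_option autoImplicit false

namespace Cfsg.Agent.Signalizer

open Subgroup
open scoped Pointwise

variable {G : Type*} [Group G] {p : ℕ}

theorem core_le_centralizer (a : G) :
    Cfsg.centralizerPPrimeCore p a ≤ centralizer ({a} : Set G) :=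
  map_subtype_le _

theorem not_dvd_card_core [Finite G] [Fact p.Prime] (a : G) :
    ¬ p ∣ Nat.card (Cfsg.centralizerPPrimeCore p a) := by
  rw [Cfsg.centralizerPPrimeCore, Cores.card_map_subtype]
  exact Cores.not_dvd_card_pPrimeCore

theorem centralizer_le_normalizer_core (a : G) :
    centralizer ({a} : Set G) ≤ normalizer (Cfsg.centralizerPPrimeCore p a : Set G) := by
  refine le_normalizer_of_conj_mem ?_
  rintro c hc _ ⟨y, hy, rfl⟩
  exact ⟨⟨c, hc⟩ * y * ⟨c, hc⟩⁻¹,
    (Cores.pPrimeCore_normal p ↥(centralizer ({a} : Set G))).conj_mem y hy _, rfl⟩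

theorem invariant_core {A : Subgroup G} (hA : IsMulCommutative ↥A) {a : G} (ha : a ∈ A) :
    A ≤ normalizer (Cfsg.centralizerPPrimeCore p a : Set G) := fun _ hb =>
  centralizer_le_normalizer_core a (mem_centralizer_singleton_iff.2
    (commute_of_isMulCommutative hA hb ha))

/-- Balance, `C(b)` being `p`-constrained. -/
theorem core_inf_centralizer_le_core [Finite G] [Fact p.Prime] {a b : G} (ha : a ^ p = 1)
    (hab : a * b = b * a) (hb : Cfsg.IsPConstrained p ↥(centralizer ({b} : Set G))) :
    Cfsg.centralizerPPrimeCore p a ⊓ centralizer {b} ≤ Cfsg.centralizerPPrimeCore p b := by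
  set H := centralizer ({b} : Set G) with hH
  set Y := Cfsg.centralizerPPrimeCore p a ⊓ H with hY
  have haH : a ∈ H := mem_centralizer_singleton_iff.2 hab
  set a' : H := ⟨a, haH⟩ with ha'
  have h := le_pPrimeCore_of_centralizer_le_normalizer hb (P := zpowers a') (Y := Y.subgroupOf H)
    (isPGroup_zpowers_of_pow_eq_one (Subtype.ext (by simpa [ha'] using ha)))
    ((Fact.out : p.Prime).coprime_iff_not_dvd.2 (by
      rw [Cores.card_subgroupOf inf_le_right]
      exact not_dvd_card_of_le inf_le_left (not_dvd_card_core a))).symm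
    (zpowers_le.2 (mem_centralizer_iff.2 fun y hy =>
      Subtype.ext (mem_centralizer_singleton_iff.1 (core_le_centralizer (p := p) a hy.1))))
    (le_normalizer_of_conj_mem fun c hc y hy => by
      have hca : (c : G) ∈ centralizer ({a} : Set G) := mem_centralizer_singleton_iff.2
        (congrArg Subtype.val (mem_centralizer_iff.1 hc a' (mem_zpowers a')).symm)
      exact ⟨conj_mem (centralizer_le_normalizer_core a) hca hy.1,
        H.mul_mem (H.mul_mem c.2 hy.2) (H.inv_mem c.2)⟩)
  intro y hy
  exact ⟨⟨y, hy.2⟩, h (show (⟨y, hy.2⟩ : H) ∈ Y.subgroupOf H from hy), rfl⟩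

theorem isSolvableSignalizerFunctor_core [Finite G] [Fact p.Prime] {A : Subgroup G}
    (hA : Cfsg.IsElementaryAbelian p A)
    (hsolv : ∀ a ∈ A, a ≠ 1 → Group.IsSolvable ↥(centralizer ({a} : Set G))) :
    Cfsg.IsSolvableSignalizerFunctor p A (fun a => Cfsg.centralizerPPrimeCore p a) :=
  ⟨⟨fun a _ _ => core_le_centralizer a, fun a _ _ => not_dvd_card_core a,
    fun a ha _ b hb _ hx => conj_mem (invariant_core hA.1 ha) hb hx,
    fun a ha _ b hb hb1 => by
      haveI := hsolv b hb hb1
      exact core_inf_centralizer_le_core (hA.2 a ha) (commute_of_isMulCommutative hA.1 ha hb)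
        HallHigman.isPConstrained_of_isSolvable⟩,
    fun a ha ha1 => by
      haveI := hsolv a ha ha1
      exact Group.isSolvable_of_isSolvable_injective
        (Subgroup.inclusion_injective (core_le_centralizer (p := p) a))⟩

end Cfsg.Agent.Signalizer
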