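import Cfsg.Agent.Lib.Signalizer.PAction

/-!
# Subgroups of elementary abelian groups

* `card_sup_zpowers`, `exists_complement_zpowers`, `exists_between`
-/

set_option autoImplicit false

namespace Cfsg.Agent.Signalizer

open Subgroup

variable {G : Type*} [Group G] {p : ℕ} [Fact p.Prime] {A : Subgroup G}

omit [Fact p.Prime] in
theorem elemAb_of_le (hA : Cfsg.IsElementaryAbelian p A) {B : Subgroup G} (hBA : B ≤ A) :
    Cfsg.IsElementaryAbelian p B :=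
  ⟨⟨⟨fun x y => Subtype.ext (commute_of_isMulCommutative hA.1 (hBA x.2) (hBA y.2))⟩⟩,
    fun e he => hA.2 e (hBA he)⟩

theorem card_sup_zpowers [Finite G] (hA : Cfsg.IsElementaryAbelian p A) {E : Subgroup G} (hE : E ≤ A) {x : G}
    (hx : x ∈ A) (hxE : x ∉ E) : Nat.card ↥(E ⊔ zpowers x) = Nat.card E * p :=
  (card_hyperplane_mul le_sup_left (relIndex_eq_prime
    (elemAb_of_le hA (sup_le hE (zpowers_le.2 hx))) le_sup_left
    (le_sup_right (a := E) (mem_zpowers x)) hxE le_rfl)).symm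

theorem exists_complement_zpowers [Finite G] (hA : Cfsg.IsElementaryAbelian p A) {b : G}
    (hb : b ∈ A) (hb1 : b ≠ 1) : ∃ A₀ ≤ A, b ∉ A₀ ∧ A₀ ⊔ zpowers b = A := by
  obtain ⟨A₀, ⟨hA₀, hbA₀⟩, hmax⟩ := (wellFounded_gt (α := Subgroup G)).has_min
    {S : Subgroup G | S ≤ A ∧ b ∉ S} ⟨⊥, bot_le, fun h => hb1 (mem_bot.1 h)⟩
  refine ⟨A₀, hA₀, hbA₀, le_antisymm (sup_le hA₀ (zpowers_le.2 hb)) fun x hx => ?_⟩
  by_contra hxA
  have hlt : A₀ < A₀ ⊔ zpowers x := lt_of_le_of_ne le_sup_left fun h =>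
    hxA (le_sup_left (b := zpowers b) (h ▸ le_sup_right (a := A₀) (mem_zpowers x)))
  have hbx : b ∈ A₀ ⊔ zpowers x := by
    by_contra h
    exact hmax _ ⟨sup_le hA₀ (zpowers_le.2 hx), h⟩ hlt
  have h1 := card_sup_zpowers hA hA₀ hb hbA₀
  have h2 := card_sup_zpowers hA hA₀ hx fun h => hxA (mem_sup_left h)
  have h3 : A₀ ⊔ zpowers b = A₀ ⊔ zpowers x :=
    eq_of_le_of_card_ge (sup_le le_sup_left (zpowers_le.2 hbx)) (h2.trans h1.symm).le
  exact hxA (h3 ▸ le_sup_right (a := A₀) (mem_zpowers x))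

theorem exists_between [Finite G] (hA : Cfsg.IsElementaryAbelian p A) {B X : Subgroup G}
    (hBX : B ≤ X) (hXA : X ≤ A) {k : ℕ} (hB : Nat.card B ≤ p ^ k) (hX : p ^ k ≤ Nat.card X) :
    ∃ D, B ≤ D ∧ D ≤ X ∧ Nat.card D = p ^ k := by
  obtain ⟨D, ⟨hBD, hDX, hD⟩, hmax⟩ := (wellFounded_gt (α := Subgroup G)).has_min
    {S : Subgroup G | B ≤ S ∧ S ≤ X ∧ Nat.card S ≤ p ^ k} ⟨B, le_rfl, hBX, hB⟩
  refine ⟨D, hBD, hDX, hD.antisymm ?_⟩
  by_contra hlt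
  rw [not_le] at hlt
  obtain ⟨x, hxX, hxD⟩ : ∃ x ∈ X, x ∉ D := by
    by_contra h
    push Not at h
    exact absurd ((card_le_of_le h).trans' hX) hlt.not_ge
  obtain ⟨j, hj⟩ := IsPGroup.iff_card.1 (isPGroup_of_elemAb (elemAb_of_le hA (hDX.trans hXA)))
  refine hmax (D ⊔ zpowers x) ⟨hBD.trans le_sup_left, sup_le hDX (zpowers_le.2 hxX), ?_⟩
    (lt_of_le_of_ne le_sup_left fun h => hxD (h ▸ le_sup_right (a := D) (mem_zpowers x)))
  rw [card_sup_zpowers hA (hDX.trans hXA) (hXA hxX) hxD, hj, ← pow_succ]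
  rw [hj] at hlt
  exact Nat.pow_le_pow_right (Fact.out : p.Prime).pos
    ((Nat.pow_lt_pow_iff_right (Fact.out : p.Prime).one_lt).1 hlt)

end Cfsg.Agent.Signalizer
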