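import Cfsg.Agent.Lib.Signalizer.PAction
import Cfsg.Agent.Lib.Signalizer.ElemAb
import Cfsg.Agent.Lib.Cores.Basic

/-!
# Signalizer functors on a connected rank-two graph

`theta_eq_bot_of_connected`: an equivariant balanced `θ` on the elements `a` of order `p` with
`m_p (C(a)) ≥ 3`, whose traces on rank-three subgroups are complete, is trivial when `O_{p'}(G) = 1`
and the rank-two graph is connected.
-/

set_option autoImplicit false

namespace Cfsg.Agent.Signalizer

open Subgroup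
open scoped Pointwise

variable {G : Type*} [Group G] [Finite G] {p : ℕ} [Fact p.Prime]

/-- An elementary abelian subgroup of rank at least three witnesses `¬ PRankLE p 2` for every overgroup. -/
theorem not_pRankLE_of_le {F H : Subgroup G} (hF : Cfsg.IsElementaryAbelian p F)
    (hF3 : p ^ 3 ≤ Nat.card F) (hFH : F ≤ H) : ¬ Cfsg.PRankLE p 2 H := by
  intro h
  have h2 := h (F.subgroupOf H)
    ⟨⟨fun x y => Subtype.ext (Subtype.ext
      (commute_of_isMulCommutative hF.1 (mem_subgroupOf.1 x.2) (mem_subgroupOf.1 y.2)))⟩⟩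
    (fun x hx => Subtype.ext (by simpa using hF.2 _ (mem_subgroupOf.1 hx)))
  rw [Cores.card_subgroupOf hFH] at h2
  exact absurd (hF3.trans h2) (not_le.2 (Nat.pow_lt_pow_right (Fact.out : p.Prime).one_lt (by norm_num)))

theorem exists_rank_three_le {H : Subgroup G} (h : ¬ Cfsg.PRankLE p 2 H) :
    ∃ F ≤ H, Cfsg.IsElementaryAbelian p F ∧ p ^ 3 ≤ Nat.card F := by
  unfold Cfsg.PRankLE at h
  push Not at h
  obtain ⟨B, hB, hBp, hcard⟩ := h
  have hBe : Cfsg.IsElementaryAbelian p (B.map H.subtype) := by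
    refine ⟨⟨⟨?_⟩⟩, ?_⟩
    · rintro ⟨_, a, ha, rfl⟩ ⟨_, b, hb, rfl⟩
      exact Subtype.ext (congrArg Subtype.val (commute_of_isMulCommutative hB ha hb) :)
    · rintro _ ⟨a, ha, rfl⟩
      rw [← map_pow, hBp a ha, map_one]
  refine ⟨B.map H.subtype, map_subtype_le B, hBe, ?_⟩
  obtain ⟨k, hk⟩ := IsPGroup.iff_card.1 (isPGroup_of_elemAb hBe)
  rw [hk]
  rw [← card_map_of_injective (K := B) H.subtype_injective, hk] at hcard
  exact Nat.pow_le_pow_right (Fact.out : p.Prime).pos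
    ((Nat.pow_lt_pow_iff_right (Fact.out : p.Prime).one_lt).1 hcard)

theorem elemAb_sup {E F : Subgroup G} (hE : Cfsg.IsElementaryAbelian p E)
    (hF : Cfsg.IsElementaryAbelian p F) (h : ∀ a ∈ E, ∀ b ∈ F, a * b = b * a) :
    Cfsg.IsElementaryAbelian p (E ⊔ F) := by
  have hnorm : F ≤ normalizer (E : Set G) :=
    le_normalizer_of_commute fun b hb a ha => (h a ha b hb).symm
  have hmem : ∀ x ∈ E ⊔ F, ∃ a ∈ E, ∃ b ∈ F, a * b = x := fun x hx => by
    have h1 : x ∈ (E : Set G) * (F : Set G) := by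
      rw [← Subgroup.coe_mul_of_right_le_normalizer_left E F hnorm]; exact hx
    obtain ⟨a, ha, b, hb, rfl⟩ := h1
    exact ⟨a, ha, b, hb, rfl⟩
  refine ⟨⟨⟨?_⟩⟩, ?_⟩
  · rintro ⟨x, hx⟩ ⟨y, hy⟩
    obtain ⟨a, ha, b, hb, rfl⟩ := hmem x hx
    obtain ⟨c, hc, d, hd, rfl⟩ := hmem y hy
    refine Subtype.ext ?_
    show a * b * (c * d) = c * d * (a * b)
    have h1 : Commute a c := commute_of_isMulCommutative hE.1 ha hc
    have h2 : Commute b d := commute_of_isMulCommutative hF.1 hb hd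
    have h3 : Commute a d := h a ha d hd
    have h4 : Commute b c := (h c hc b hb).symm
    exact ((h1.mul_right h3).mul_left (h4.mul_right h2)).eq
  · intro x hx
    obtain ⟨a, ha, b, hb, rfl⟩ := hmem x hx
    rw [(show Commute a b from h a ha b hb).mul_pow, hE.2 a ha, hF.2 b hb, one_mul]

theorem order_and_rank {F : Subgroup G} (hF : Cfsg.IsElementaryAbelian p F)
    (hF3 : p ^ 3 ≤ Nat.card F) {a : G} (ha : a ∈ F) (ha1 : a ≠ 1) :
    orderOf a = p ∧ ¬ Cfsg.PRankLE p 2 ↥(centralizer ({a} : Set G)) :=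
  ⟨orderOf_eq_prime (hF.2 a ha) ha1, not_pRankLE_of_le hF hF3 fun _ hx =>
    mem_centralizer_singleton_iff.2 (commute_of_isMulCommutative hF.1 hx ha)⟩

/-- The trace subgroup `⟨θ a : a ∈ E#⟩`. -/
def wSub (θ : G → Subgroup G) (E : Subgroup G) : Subgroup G :=
  ⨆ a : {a : G // a ∈ E ∧ a ≠ 1}, θ a

omit [Finite G] in
theorem le_wSub {θ : G → Subgroup G} {E : Subgroup G} {a : G} (ha : a ∈ E) (ha1 : a ≠ 1) :
    θ a ≤ wSub θ E :=
  le_iSup (fun a : {a : G // a ∈ E ∧ a ≠ 1} => θ a) ⟨a, ha, ha1⟩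

omit [Finite G] [Fact p.Prime] in
theorem map_conj_centralizerPPrimeCore (b g : G) :
    (Cfsg.centralizerPPrimeCore p b).map (MulAut.conj g).toMonoidHom =
      Cfsg.centralizerPPrimeCore p (g * b * g⁻¹) := by
  have hC : (Subgroup.centralizer ({b} : Set G)).map (MulAut.conj g).toMonoidHom =
      Subgroup.centralizer ({g * b * g⁻¹} : Set G) := by
    ext x
    rw [Cfsg.Agent.Signalizer.mem_map_conj, Subgroup.mem_centralizer_singleton_iff,
      Subgroup.mem_centralizer_singleton_iff]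
    constructor
    · intro h
      calc x * (g * b * g⁻¹) = g * (g⁻¹ * x * g * b) * g⁻¹ := by group
        _ = g * (b * (g⁻¹ * x * g)) * g⁻¹ := by rw [h]
        _ = g * b * g⁻¹ * x := by group
    · intro h
      calc g⁻¹ * x * g * b = g⁻¹ * (x * (g * b * g⁻¹)) * g := by group
        _ = g⁻¹ * (g * b * g⁻¹ * x) * g := by rw [h]
        _ = b * (g⁻¹ * x * g) := by group
  let e : ↥(Subgroup.centralizer ({b} : Set G)) ≃* ↥(Subgroup.centralizer ({g * b * g⁻¹} : Set G)) :=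
    ((MulAut.conj g).subgroupMap _).trans (MulEquiv.subgroupCongr hC)
  rw [Cfsg.centralizerPPrimeCore, Cfsg.centralizerPPrimeCore,
    ← Cfsg.Agent.Cores.pPrimeCore_map_mulEquiv e p, Subgroup.map_map, Subgroup.map_map]
  rfl

theorem theta_eq_bot_of_connected (θ : G → Subgroup G)
    (hO : Cfsg.pPrimeCore p G = ⊥) (hrk : ¬ Cfsg.PRankLE p 2 G)
    (hconn : Cfsg.IsRankGraphConnected p 2 G)
    (heq : ∀ a g : G, (orderOf a = p ∧ ¬ Cfsg.PRankLE p 2 ↥(centralizer ({a} : Set G))) →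
      θ (g * a * g⁻¹) = (θ a).map (MulAut.conj g).toMonoidHom)
    (hle : ∀ a : G, (orderOf a = p ∧ ¬ Cfsg.PRankLE p 2 ↥(centralizer ({a} : Set G))) →
      θ a ≤ centralizer {a})
    (hcomplete : ∀ F : Subgroup G, Cfsg.IsElementaryAbelian p F → p ^ 3 ≤ Nat.card F →
      ¬ p ∣ Nat.card (wSub θ F) ∧ ∀ a ∈ F, a ≠ 1 → wSub θ F ⊓ centralizer {a} = θ a)
    (a : G) (ha : orderOf a = p ∧ ¬ Cfsg.PRankLE p 2 ↥(centralizer ({a} : Set G))) :
    θ a = ⊥ := by
  have hconj : ∀ (g : G) (b : G),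
      (orderOf b = p ∧ ¬ Cfsg.PRankLE p 2 ↥(centralizer ({b} : Set G))) →
      (∀ x, x ∈ θ (g * b * g⁻¹) ↔ g⁻¹ * x * g ∈ θ b) := fun g b hb x => by
    rw [heq b g hb, mem_map_conj]
  -- rank three groups normalise their traces
  have hnorm : ∀ F : Subgroup G, Cfsg.IsElementaryAbelian p F → p ^ 3 ≤ Nat.card F →
      F ≤ normalizer (wSub θ F : Set G) := fun F hF hF3 =>
    le_normalizer_iSup fun c => le_normalizer_of_conj_mem fun b hb x hx => by
      have h1 : b * c.1 * b⁻¹ = c.1 := by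
        rw [commute_of_isMulCommutative hF.1 hb c.2.1]; group
      rw [← h1, hconj b c (order_and_rank hF hF3 c.2.1 c.2.2)]
      simpa [mul_assoc] using hx
  have hsub : ∀ F E : Subgroup G, Cfsg.IsElementaryAbelian p F → p ^ 3 ≤ Nat.card F →
      E ≤ F → p ^ 2 ≤ Nat.card E → wSub θ F = wSub θ E := by
    intro F E hF hF3 hEF hE2
    refine le_antisymm (le_of_elements (elemAb_of_le hF hEF) hE2 _ _ (hcomplete F hF hF3).1
      (hEF.trans (hnorm F hF hF3)) fun e he he1 => ?_)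
      (iSup_le fun e => le_wSub (hEF e.2.1) e.2.2)
    rw [(hcomplete F hF hF3).2 e (hEF he) he1]
    exact le_wSub he he1
  -- commuting vertices lie in a common rank three group
  have hedge : ∀ E E' : Subgroup G, Cfsg.IsRankGraphVertex p 2 E → Cfsg.IsRankGraphVertex p 2 E' →
      (∀ x ∈ E, ∀ y ∈ E', x * y = y * x) → wSub θ E = wSub θ E' := by
    intro E E' hE hE' hcom
    have hS := elemAb_sup hE.1 hE'.1 hcom
    by_cases hcard : p ^ 3 ≤ Nat.card ↥(E ⊔ E')
    · rw [← hsub _ E hS hcard le_sup_left hE.2.1, ← hsub _ E' hS hcard le_sup_right hE'.2.1]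
    have hlt : ∀ D : Subgroup G, Cfsg.IsRankGraphVertex p 2 D → D ≤ E ⊔ E' → D = E ⊔ E' := by
      intro D hD hDS
      refine eq_of_le_of_card_ge hDS (le_trans ?_ hD.2.1)
      obtain ⟨k, hk⟩ := IsPGroup.iff_card.1 (isPGroup_of_elemAb hS)
      rw [hk] at hcard ⊢
      refine Nat.pow_le_pow_right (Fact.out : p.Prime).pos ?_
      by_contra h3
      exact hcard (Nat.pow_le_pow_right (Fact.out : p.Prime).pos (by omega))
    exact congrArg (wSub θ) ((hlt E hE le_sup_left).trans (hlt E' hE' le_sup_right).symm)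
  have hconst : ∀ E E' : Subgroup G, Cfsg.IsRankGraphVertex p 2 E →
      Cfsg.IsRankGraphVertex p 2 E' → wSub θ E = wSub θ E' := by
    intro E E' hE hE'
    have h := hconn E E' hE hE'
    clear hE hE'
    induction h with
    | refl => rfl
    | tail _ h2 ih => exact ih.trans (hedge _ _ h2.1 h2.2.1 h2.2.2)
  have hvert : ∀ F : Subgroup G, Cfsg.IsElementaryAbelian p F → p ^ 3 ≤ Nat.card F →
      Cfsg.IsRankGraphVertex p 2 F := fun F hF hF3 =>
    ⟨hF, le_trans (Nat.pow_le_pow_right (Fact.out : p.Prime).pos (by norm_num)) hF3,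
      not_pRankLE_of_le hF hF3 fun x hx => mem_centralizer_iff.2 fun y hy =>
        commute_of_isMulCommutative hF.1 hy hx⟩
  -- a rank three subgroup containing `a`
  obtain ⟨F₀, hF₀C, hF₀, hF₀3⟩ := exists_rank_three_le ha.2
  have hza : Cfsg.IsElementaryAbelian p (zpowers a) := by
    refine ⟨inferInstance, ?_⟩
    rintro _ ⟨i, rfl⟩
    rw [← zpow_natCast, ← zpow_mul, mul_comm, zpow_mul, zpow_natCast, ← ha.1, pow_orderOf_eq_one,
      one_zpow]
  have hF := elemAb_sup hza hF₀ (by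
    rintro _ ⟨i, rfl⟩ y hy
    exact ((show Commute y a from mem_centralizer_singleton_iff.1 (hF₀C hy)).zpow_right i).symm.eq)
  have hF3 : p ^ 3 ≤ Nat.card ↥(zpowers a ⊔ F₀) := hF₀3.trans (card_le_of_le le_sup_right)
  have ha1 : a ≠ 1 := fun h => by
    have := ha.1; rw [h, orderOf_one] at this; exact (Fact.out : p.Prime).one_lt.ne this
  let F := zpowers a ⊔ F₀
  have haF : a ∈ F := mem_sup_left (mem_zpowers a)
  -- its trace subgroup is normal
  have hWn : (wSub θ F).Normal := by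
    refine ⟨fun x hx g => ?_⟩
    have hFg : Cfsg.IsElementaryAbelian p (F.map (MulAut.conj g).toMonoidHom) := by
      refine ⟨⟨⟨?_⟩⟩, ?_⟩
      · rintro ⟨_, u, hu, rfl⟩ ⟨_, v, hv, rfl⟩
        refine Subtype.ext ?_
        show (MulAut.conj g) u * (MulAut.conj g) v = (MulAut.conj g) v * (MulAut.conj g) u
        rw [← map_mul, ← map_mul, commute_of_isMulCommutative hF.1 hu hv]
      · rintro _ ⟨u, hu, rfl⟩
        rw [← map_pow, hF.2 u hu, map_one]
    have hFg3 : p ^ 3 ≤ Nat.card ↥(F.map (MulAut.conj g).toMonoidHom) := by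
      rw [card_map_of_injective (MulAut.conj g).injective]; exact hF3
    rw [hconst F _ (hvert F hF hF3) (hvert _ hFg hFg3)]
    have : (wSub θ F).map (MulAut.conj g).toMonoidHom ≤ wSub θ (F.map (MulAut.conj g).toMonoidHom) := by
      rw [wSub, Subgroup.map_iSup]
      refine iSup_le fun c => ?_
      rw [← heq c g (order_and_rank hF hF3 c.2.1 c.2.2)]
      refine le_wSub ⟨c, c.2.1, by simp⟩ fun h => c.2.2 ?_
      calc (c : G) = g⁻¹ * (g * c * g⁻¹) * g := by group
        _ = 1 := by rw [h]; group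
    exact this ⟨x, hx, rfl⟩
  have hW : wSub θ F ≤ Cfsg.pPrimeCore p G := Cores.le_pPrimeCore hWn
    ((Fact.out : p.Prime).coprime_iff_not_dvd.2 (hcomplete F hF hF3).1).symm
  rw [hO] at hW
  exact le_bot_iff.1 ((le_wSub haF ha1).trans hW)

end Cfsg.Agent.Signalizer
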