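import Cfsg.Agent.Lib.Signalizer.Basic

/-!
# The transitivity theorem for solvable signalizer functors

* `exists_moving_element` – the normaliser-of-a-meet lemma for two invariant `q`-subgroups
* `IsMaxMember`, `exists_max_member_ge`
* `max_member_conj` – transitivity under `θ(C(A))`
* `sylow_of_max_member`, `sylow_inf_centralizer_of_max_member`
* `exists_greatest_member`, `complete_of_single_prime`
-/

set_option autoImplicit false

namespace Cfsg.Agent.Signalizer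

open Subgroup

variable {G : Type*} [Group G] [Finite G] {p q : ℕ} [Fact p.Prime] [Fact q.Prime]
  {A : Subgroup G} {θ : G → Subgroup G}

omit [Fact p.Prime] in
theorem exists_mem_normalizer_not_mem {D Q : Subgroup G} (hQ : IsPGroup q Q) (hDQ : D ≤ Q)
    (hne : D ≠ Q) : ∃ x ∈ Q, x ∈ normalizer (D : Set G) ∧ x ∉ D := by
  haveI := hQ.isNilpotent
  have h1 : D.subgroupOf Q ≠ ⊤ := fun h =>
    hne (le_antisymm hDQ (Subgroup.subgroupOf_eq_top.1 h))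
  obtain ⟨x, hxN, hxD⟩ :=
    SetLike.exists_of_lt (Group.normalizerCondition_of_isNilpotent (D.subgroupOf Q) h1.lt_top)
  refine ⟨x, x.2, mem_normalizer_of_conj_mem fun y hy => ?_,
    fun h => hxD (by rwa [mem_subgroupOf])⟩
  have := (mem_normalizer_iff.1 hxN ⟨y, hDQ hy⟩).1 (by simpa [mem_subgroupOf] using hy)
  simpa [mem_subgroupOf] using this

/-- Two invariant `q`-subgroups have, for some `a ≠ 1`, `C(a)`-elements moving off their meet. -/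
theorem exists_moving_element (hA : Cfsg.IsElementaryAbelian p A) (hA3 : p ^ 3 ≤ Nat.card A)
    {Q₁ Q₂ : Subgroup G} (h₁ : IsPGroup q Q₁) (h₂ : IsPGroup q Q₂) (hp₁ : ¬ p ∣ Nat.card Q₁)
    (hp₂ : ¬ p ∣ Nat.card Q₂)
    (hA₁ : A ≤ normalizer (Q₁ : Set G)) (hA₂ : A ≤ normalizer (Q₂ : Set G))
    (hD₁ : Q₁ ⊓ Q₂ ≠ Q₁) (hD₂ : Q₁ ⊓ Q₂ ≠ Q₂) :
    ∃ a ∈ A, a ≠ 1 ∧
      ¬ (normalizer ((Q₁ ⊓ Q₂ : Subgroup G) : Set G) ⊓ Q₁ ⊓ centralizer {a} ≤ Q₁ ⊓ Q₂) ∧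
      ¬ (normalizer ((Q₁ ⊓ Q₂ : Subgroup G) : Set G) ⊓ Q₂ ⊓ centralizer {a} ≤ Q₁ ⊓ Q₂) := by
  have hA1 : A ≠ ⊥ := ne_bot_of_pow_le three_ne_zero hA3
  have key : ∀ Q : Subgroup G, IsPGroup q Q → ¬ p ∣ Nat.card Q → A ≤ normalizer (Q : Set G) →
      Q₁ ⊓ Q₂ ≤ Q → Q₁ ⊓ Q₂ ≠ Q → ∃ B : Subgroup G, B ≤ A ∧ B.relIndex A = p ∧
        ¬ (normalizer ((Q₁ ⊓ Q₂ : Subgroup G) : Set G) ⊓ Q ⊓ centralizer (B : Set G)
            ≤ Q₁ ⊓ Q₂) := by
    intro Q hQ hpQ hAQ hle hne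
    obtain ⟨x, hxQ, hxN, hxD⟩ := exists_mem_normalizer_not_mem hQ hle hne
    by_contra hcon
    push Not at hcon
    exact hxD (le_of_hyperplanes hA hA1 _ (normalizer ((Q₁ ⊓ Q₂ : Subgroup G) : Set G) ⊓ Q)
      (not_dvd_card_of_le inf_le_right hpQ)
      (le_normalizer_inf ((le_normalizer_inf hA₁ hA₂).trans le_normalizer) hAQ)
      (fun B hBA hi => hcon B hBA hi) ⟨hxN, hxQ⟩)
  obtain ⟨B₁, hB₁, hi₁, hn₁⟩ := key Q₁ h₁ hp₁ hA₁ inf_le_left hD₁
  obtain ⟨B₂, hB₂, hi₂, hn₂⟩ := key Q₂ h₂ hp₂ hA₂ inf_le_right hD₂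
  obtain ⟨a, ha, ha1⟩ : ∃ a ∈ B₁ ⊓ B₂, a ≠ 1 := by
    by_contra hcon
    push Not at hcon
    have hb : B₁ ⊓ B₂ = ⊥ := (Subgroup.eq_bot_iff_forall _).2 hcon
    have h := Subgroup.relIndex_inf_le (H := B₁) (K := B₂) (L := A)
    rw [hi₁, hi₂, hb, Subgroup.relIndex_bot_left] at h
    have hp := (Fact.out : p.Prime).one_lt
    have : p ^ 3 ≤ p * p := hA3.trans h
    nlinarith [pow_pos (show 0 < p by omega) 2]
  exact ⟨a, hB₁ ha.1, ha1,
    fun h => hn₁ ((inf_le_inf_left _ (centralizer_le_singleton ha.1)).trans h),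
    fun h => hn₂ ((inf_le_inf_left _ (centralizer_le_singleton ha.2)).trans h)⟩

omit [Finite G] [Fact p.Prime] [Fact q.Prime] in
/-- `Q` is maximal among the `q`-subgroups in the family. -/
def IsMaxMember (p q : ℕ) (A : Subgroup G) (θ : G → Subgroup G) (Q : Subgroup G) : Prop :=
  Q ∈ Cfsg.signalizerFamily p A θ ∧ IsPGroup q Q ∧
    ∀ R ∈ Cfsg.signalizerFamily p A θ, IsPGroup q R → Q ≤ R → R = Q

omit [Fact p.Prime] [Fact q.Prime] in
theorem exists_max_member_ge {R : Subgroup G} (hR : R ∈ Cfsg.signalizerFamily p A θ)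
    (hRq : IsPGroup q R) : ∃ Q, IsMaxMember p q A θ Q ∧ R ≤ Q := by
  obtain ⟨Q, ⟨hQW, hQq, hRQ⟩, hmax⟩ := Set.Finite.exists_maximal
    (s := {Q : Subgroup G | Q ∈ Cfsg.signalizerFamily p A θ ∧ IsPGroup q Q ∧ R ≤ Q})
    (Set.toFinite _) ⟨R, hR, hRq, le_rfl⟩
  exact ⟨Q, ⟨hQW, hQq, fun S hS hSq hQS =>
    le_antisymm (hmax ⟨hS, hSq, hRQ.trans hQS⟩ hQS) hQS⟩, hRQ⟩

omit [Finite G] [Fact p.Prime] [Fact q.Prime] in
theorem map_conj_map_conj (U : Subgroup G) (c d : G) :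
    (U.map (MulAut.conj c).toMonoidHom).map (MulAut.conj d).toMonoidHom =
      U.map (MulAut.conj (d * c)).toMonoidHom := by
  ext x
  simp only [mem_map_conj, mul_inv_rev]
  simp [mul_assoc]

omit [Finite G] [Fact p.Prime] [Fact q.Prime] in
theorem map_conj_one (U : Subgroup G) : U.map (MulAut.conj (1 : G)).toMonoidHom = U := by
  ext x; simp [mem_map_conj]

omit [Fact p.Prime] [Fact q.Prime] in
theorem map_conj_isMaxMember (hθ : Cfsg.IsSignalizerFunctor p A θ) {Q : Subgroup G}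
    (hQ : IsMaxMember p q A θ Q) {c : G} (hc : c ∈ Cfsg.signalizerInf A θ) :
    IsMaxMember p q A θ (Q.map (MulAut.conj c).toMonoidHom) := by
  refine ⟨map_conj_mem_family hθ hc hQ.1, hQ.2.1.map _, fun R hR hRq hle => ?_⟩
  have h := hQ.2.2 _ (map_conj_mem_family hθ (inv_mem hc) hR) (hRq.map _) (fun x hx => by
    rw [mem_map_conj, inv_inv]; exact hle ⟨x, hx, rfl⟩)
  rw [← h, map_conj_map_conj, mul_inv_cancel, map_conj_one]

/-- **Transitivity theorem.** -/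
theorem max_member_conj (hA : Cfsg.IsElementaryAbelian p A) (hA3 : p ^ 3 ≤ Nat.card A)
    (hθ : Cfsg.IsSolvableSignalizerFunctor p A θ) {Q₁ Q₂ : Subgroup G}
    (h₁ : IsMaxMember p q A θ Q₁) (h₂ : IsMaxMember p q A θ Q₂) :
    ∃ c ∈ Cfsg.signalizerInf A θ, Q₁.map (MulAut.conj c).toMonoidHom = Q₂ := by
  have hAp : IsPGroup p A := isPGroup_of_elemAb hA
  suffices H : ∀ D : Subgroup G, ∀ Q₁ Q₂, IsMaxMember p q A θ Q₁ → IsMaxMember p q A θ Q₂ →
      Q₁ ⊓ Q₂ = D → ∃ c ∈ Cfsg.signalizerInf A θ, Q₁.map (MulAut.conj c).toMonoidHom = Q₂ from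
    H _ Q₁ Q₂ h₁ h₂ rfl
  clear h₁ h₂ Q₁ Q₂
  intro D
  induction D using WellFoundedGT.induction with
  | ind D ih =>
  intro Q₁ Q₂ h₁ h₂ hD
  by_cases e₁ : Q₁ ⊓ Q₂ = Q₁
  · refine ⟨1, one_mem _, ?_⟩
    rw [map_conj_one]
    exact (h₁.2.2 Q₂ h₂.1 h₂.2.1 (e₁ ▸ inf_le_right)).symm
  by_cases e₂ : Q₁ ⊓ Q₂ = Q₂
  · refine ⟨1, one_mem _, ?_⟩
    rw [map_conj_one]
    exact h₂.2.2 Q₁ h₁.1 h₁.2.1 (e₂ ▸ inf_le_left)
  have hA₁ := invariant_of_mem_family h₁.1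
  have hA₂ := invariant_of_mem_family h₂.1
  obtain ⟨a, ha, ha1, hn₁, hn₂⟩ := exists_moving_element hA hA3 h₁.2.1 h₂.2.1 h₁.1.2.1 h₂.1.2.1
    hA₁ hA₂ e₁ e₂
  subst hD
  set D : Subgroup G := Q₁ ⊓ Q₂ with hDdef
  have hAD : A ≤ normalizer (D : Set G) := le_normalizer_inf hA₁ hA₂
  set H : Subgroup G := θ a ⊓ normalizer (D : Set G) with hH
  have hAH : A ≤ normalizer (H : Set G) :=
    le_normalizer_inf (invariant_theta hθ.1 ha ha1) (hAD.trans le_normalizer)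
  have hHW : H ∈ Cfsg.signalizerFamily p A θ :=
    mem_family_of_le (theta_mem_family hθ ha ha1) inf_le_left hAH
  have hACa : A ≤ normalizer (centralizer ({a} : Set G) : Set G) := by
    rw [← Subgroup.centralizer_closure, ← zpowers_eq_closure]
    exact le_normalizer_centralizer (le_normalizer_of_commute fun x hx y hy =>
      commute_of_isMulCommutative hA.1 hx (zpowers_le.2 ha hy))
  -- the two `q`-subgroups of `H`
  have key : ∀ Q, IsMaxMember p q A θ Q → A ≤ normalizer (Q : Set G) → D ≤ Q →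
      ¬ (normalizer (D : Set G) ⊓ Q ⊓ centralizer {a} ≤ D) →
      ∃ S, IsSylowIn q H S ∧ A ≤ normalizer (S : Set G) ∧
        normalizer (D : Set G) ⊓ Q ⊓ centralizer {a} ≤ S := by
    intro Q hQ hAQ _ _
    refine exists_invariant_sylow_ge hAp hHW.2.1 hAH (le_inf ?_ (inf_le_left.trans inf_le_left))
      (hQ.2.1.to_le (inf_le_left.trans inf_le_right))
      (le_normalizer_inf (le_normalizer_inf (hAD.trans le_normalizer) hAQ) hACa)
    exact (inf_le_inf_right _ inf_le_right).trans (hQ.1.2.2.2 a ha ha1)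
  obtain ⟨S₁, hS₁, hAS₁, hR₁⟩ := key Q₁ h₁ hA₁ inf_le_left hn₁
  obtain ⟨S₂, hS₂, hAS₂, hR₂⟩ := key Q₂ h₂ hA₂ inf_le_right hn₂
  obtain ⟨c, hcH, hcA, hc⟩ := exists_conj_invariant_sylow hAp hHW.2.1 hAH hS₁ hS₂ hAS₁ hAS₂
  have hcT : c ∈ Cfsg.signalizerInf A θ :=
    theta_inf_centralizer_le_inf hθ.1 ha ha1 le_rfl ⟨hcH.1, hcA⟩
  have hS₁N : S₁ ≤ normalizer (D : Set G) := hS₁.1.trans inf_le_right
  obtain ⟨U₁, hU₁, hU₁le⟩ := exists_max_member_ge (q := q)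
    (sup_mem_family hA (mem_family_of_le h₁.1 inf_le_left hAD)
      (mem_family_of_le hHW hS₁.1 hAS₁) hS₁N)
    (IsPGroup.to_sup_of_normal_left' (h₁.2.1.to_le inf_le_left) hS₁.2.1 hS₁N)
  set U₂ : Subgroup G := U₁.map (MulAut.conj c).toMonoidHom with hU₂def
  have hU₂ : IsMaxMember p q A θ U₂ := map_conj_isMaxMember hθ.1 hU₁ hcT
  have hlt₁ : D < Q₁ ⊓ U₁ := by
    refine lt_of_le_not_ge (le_inf inf_le_left (le_sup_left.trans hU₁le)) fun h => hn₁ ?_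
    exact le_trans (le_inf (inf_le_left.trans inf_le_right)
      (hR₁.trans (le_sup_right.trans hU₁le))) h
  have hlt₂ : D < U₂ ⊓ Q₂ := by
    refine lt_of_le_not_ge (le_inf ?_ inf_le_right) fun h => hn₂ ?_
    · intro x hx
      rw [hU₂def, mem_map_conj]
      refine hU₁le (le_sup_left (b := S₁) ?_)
      have := conj_mem (N := D) le_rfl (inv_mem hcH.2) hx
      rwa [inv_inv] at this
    · refine le_trans (le_inf (hR₂.trans ?_) (inf_le_left.trans inf_le_right)) h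
      rw [hU₂def, ← hc]
      exact Subgroup.map_mono (le_sup_right.trans hU₁le)
  obtain ⟨c₁, hc₁, hc₁'⟩ := ih _ hlt₁ Q₁ U₁ h₁ hU₁ rfl
  obtain ⟨c₃, hc₃, hc₃'⟩ := ih _ hlt₂ U₂ Q₂ hU₂ h₂ rfl
  refine ⟨c₃ * (c * c₁), mul_mem hc₃ (mul_mem hcT hc₁), ?_⟩
  rw [← map_conj_map_conj, ← map_conj_map_conj, hc₁', ← hU₂def, hc₃']

/-- A maximal `q`-member meets every member in a Sylow subgroup, up to `θ(C(A))`-conjugation. -/
theorem sylow_of_max_member (hA : Cfsg.IsElementaryAbelian p A) (hA3 : p ^ 3 ≤ Nat.card A)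
    (hθ : Cfsg.IsSolvableSignalizerFunctor p A θ) {Q H : Subgroup G}
    (hQ : IsMaxMember p q A θ Q) (hH : H ∈ Cfsg.signalizerFamily p A θ) :
    ∃ c ∈ Cfsg.signalizerInf A θ, IsSylowIn q H (Q.map (MulAut.conj c).toMonoidHom ⊓ H) := by
  obtain ⟨S, hS, hAS⟩ := exists_invariant_sylow (q := q) (isPGroup_of_elemAb hA) H hH.2.1
    (invariant_of_mem_family hH)
  obtain ⟨U, hU, hSU⟩ := exists_max_member_ge (q := q) (mem_family_of_le hH hS.1 hAS) hS.2.1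
  obtain ⟨c, hc, hc'⟩ := max_member_conj hA hA3 hθ hQ hU
  refine ⟨c, hc, ?_⟩
  rw [hc']
  have := hS.eq_of_le (le_inf hSU hS.1) inf_le_right (hU.2.1.to_le inf_le_left)
  rwa [this]

omit [Fact p.Prime] [Fact q.Prime] in
theorem IsSylowIn.map_conj {K S : Subgroup G} (h : IsSylowIn q K S) (c : G) :
    IsSylowIn q (K.map (MulAut.conj c).toMonoidHom) (S.map (MulAut.conj c).toMonoidHom) := by
  refine ⟨Subgroup.map_mono h.1, h.2.1.map _, ?_⟩
  rw [Subgroup.relIndex_map_map_of_injective _ _ (MulAut.conj c).injective]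
  exact h.2.2

/-- `C_Q(B)` is a Sylow subgroup of `θ(C(B))`. -/
theorem sylow_inf_centralizer_of_max_member (hA : Cfsg.IsElementaryAbelian p A)
    (hA3 : p ^ 3 ≤ Nat.card A) (hθ : Cfsg.IsSolvableSignalizerFunctor p A θ) {Q B : Subgroup G}
    (hQ : IsMaxMember p q A θ Q) (hBA : B ≤ A) (hB : B ≠ ⊥) :
    IsSylowIn q (Cfsg.signalizerInf B θ) (Q ⊓ centralizer (B : Set G)) := by
  obtain ⟨c, hc, hcS⟩ := sylow_of_max_member hA hA3 hθ hQ (signalizerInf_mem_family hθ hBA hB)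
  have hcI : c ∈ Cfsg.signalizerInf B θ :=
    mem_signalizerInf.2 fun b hb hb1 => mem_signalizerInf.1 hc b (hBA hb) hb1
  have h := hcS.map_conj c⁻¹
  have e1 : (Cfsg.signalizerInf B θ).map (MulAut.conj c⁻¹).toMonoidHom =
      Cfsg.signalizerInf B θ := by
    ext x
    simp only [mem_map_conj, inv_inv]
    rw [Subgroup.mul_mem_cancel_right _ (inv_mem hcI), Subgroup.mul_mem_cancel_left _ hcI]
  rw [e1, Subgroup.map_inf _ _ _ (MulAut.conj c⁻¹).injective, e1, map_conj_map_conj,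
    inv_mul_cancel, map_conj_one] at h
  convert h using 1
  exact le_antisymm (le_inf inf_le_left (inf_family_le_inf hQ.1 hBA))
    (inf_le_inf_left _ (signalizerInf_le_centralizer hθ.1 hBA))

/-- If `θ(C(A))` is a `q`-group there is a greatest `q`-member. -/
theorem exists_greatest_member (hA : Cfsg.IsElementaryAbelian p A) (hA3 : p ^ 3 ≤ Nat.card A)
    (hθ : Cfsg.IsSolvableSignalizerFunctor p A θ) (hT : IsPGroup q (Cfsg.signalizerInf A θ)) :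
    ∃ Q, IsMaxMember p q A θ Q ∧
      ∀ R ∈ Cfsg.signalizerFamily p A θ, IsPGroup q R → R ≤ Q := by
  obtain ⟨Q, hQ, hTQ⟩ := exists_max_member_ge (q := q)
    (signalizerInf_mem_family hθ le_rfl (ne_bot_of_pow_le three_ne_zero hA3)) hT
  refine ⟨Q, hQ, fun R hR hRq => ?_⟩
  obtain ⟨U, hU, hRU⟩ := exists_max_member_ge hR hRq
  obtain ⟨c, hc, rfl⟩ := max_member_conj hA hA3 hθ hQ hU
  refine hRU.trans ?_
  rintro _ ⟨x, hx, rfl⟩
  exact Q.mul_mem (Q.mul_mem (hTQ hc) hx) (Q.inv_mem (hTQ hc))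

/-- If all the `θ a` are `q`-groups then the functor is complete. -/
theorem complete_of_single_prime (hA : Cfsg.IsElementaryAbelian p A) (hA3 : p ^ 3 ≤ Nat.card A)
    (hθ : Cfsg.IsSolvableSignalizerFunctor p A θ) (hq : ∀ a ∈ A, a ≠ 1 → IsPGroup q (θ a)) :
    Cfsg.IsCompleteSignalizerFunctor p A θ := by
  obtain ⟨a₀, ha₀, ha₀1⟩ : ∃ a ∈ A, a ≠ 1 := by
    by_contra hcon
    push Not at hcon
    exact ne_bot_of_pow_le three_ne_zero hA3 ((Subgroup.eq_bot_iff_forall A).2 hcon)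
  obtain ⟨Q, hQ, hmax⟩ := exists_greatest_member hA hA3 hθ
    ((hq a₀ ha₀ ha₀1).to_le (signalizerInf_le ha₀ ha₀1))
  refine ⟨hθ.1, Q, hQ.1.2.2.1, hQ.1.2.1, fun a ha ha1 => le_antisymm (hQ.1.2.2.2 a ha ha1) ?_⟩
  exact le_inf (hmax _ (theta_mem_family hθ ha ha1) (hq a ha ha1)) (hθ.1.1 a ha ha1)

end Cfsg.Agent.Signalizer
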