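import Cfsg.Agent.Lib.Signalizer.PAction
import Cfsg.Agent.Lib.ConstrainedTrans.Basic
import Cfsg.Agent.Lib.PGroup.Omega
import Cfsg.Agent.Lib.HallHigman.PSolvable

/-!
# `p'`-subgroups invariant under `p`-subgroups in `p`-constrained groups

* `le_pPrimeCore_of_centralizer_le_normalizer`: balance in `p`-constrained groups
* `le_pPrimeCore_of_omega`: odd `p`, `A` abelian with `Ω₁(C(A)) ≤ A`
-/

set_option autoImplicit false

namespace Cfsg.Agent.Signalizer

open Subgroup
open scoped Pointwise commutatorElement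

variable {G : Type*} [Group G] [Finite G] {p : ℕ} [Fact p.Prime]

/-- A `p'`-group centralised by a `p`-group `P` and normalised by `C(P)` is trivial in
characteristic `p`. -/
theorem eq_bot_of_centralizer_le_normalizer (hX : Constrained.IsCharP p G) {P Y : Subgroup G}
    (hP : IsPGroup p P) (hY : (Nat.card Y).Coprime p)
    (hPY : P ≤ centralizer (Y : Set G))
    (hn : centralizer (P : Set G) ≤ normalizer (Y : Set G)) : Y = ⊥ := by
  set R := Cfsg.pCore p G with hR
  have hRp : IsPGroup p R := Cores.isPGroup_pCore p G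
  have hRn : R.Normal := Cores.pCore_normal p G
  have hnorm : ∀ S : Subgroup G, S ≤ normalizer (R : Set G) := fun S => by
    rw [normalizer_eq_top]; exact le_top
  have hcop : (Nat.card Y).Coprime (Nat.card R) := Coprime.coprime_of_isPGroup hY hRp
  have hYR : Y ≤ centralizer (R : Set G) := by
    refine Coprime.thompson_pq p hP hY hRp hPY (hnorm P) (hnorm Y) fun r hr => ?_
    rw [mem_centralizer_iff]
    intro y hy
    have h1 : r * y * r⁻¹ * y⁻¹ ∈ Y :=
      Y.mul_mem (conj_mem hn hr.2 hy) (Y.inv_mem hy)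
    have h3 : r * y * r⁻¹ * y⁻¹ ∈ R := by
      have := R.mul_mem hr.1 (hRn.conj_mem _ (R.inv_mem hr.1) y)
      simpa [mul_assoc] using this
    have h4 := Coprime.eq_one_of_mem_of_mem hcop h1 h3
    calc y * r = (r * y * r⁻¹ * y⁻¹)⁻¹ * (r * y) := by group
      _ = r * y := by rw [h4, inv_one, one_mul]
  rw [eq_bot_iff]
  intro y hy
  exact mem_bot.2 (Coprime.eq_one_of_mem_of_mem hcop hy (hX (hYR hy)))

/-- Balance in a `p`-constrained group. -/
theorem le_pPrimeCore_of_centralizer_le_normalizer (hX : Cfsg.IsPConstrained p G)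
    {P Y : Subgroup G} (hP : IsPGroup p P) (hY : (Nat.card Y).Coprime p)
    (hPY : P ≤ centralizer (Y : Set G))
    (hn : centralizer (P : Set G) ≤ normalizer (Y : Set G)) : Y ≤ Cfsg.pPrimeCore p G := by
  set O := Cfsg.pPrimeCore p G with hO
  set π := QuotientGroup.mk' O with hπ
  haveI : O.Normal := Cores.pPrimeCore_normal p G
  have hOp : ¬ p ∣ Nat.card O := Cores.not_dvd_card_pPrimeCore
  suffices h : Y.map π = ⊥ by
    rw [Subgroup.map_eq_bot_iff, hπ, QuotientGroup.ker_mk'] at h
    exact h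
  refine eq_bot_of_centralizer_le_normalizer (Constrained.isPConstrained_iff.1 hX) (P := P.map π)
    (hP.map π) (Nat.Coprime.coprime_dvd_left (Y.card_map_dvd π) hY) ?_ ?_
  · rintro _ ⟨x, hx, rfl⟩
    rw [mem_centralizer_iff]
    rintro _ ⟨y, hy, rfl⟩
    rw [← map_mul, ← map_mul, mem_centralizer_iff.1 (hPY hx) y hy]
  · intro x hx
    obtain ⟨g, rfl⟩ := QuotientGroup.mk'_surjective O x
    obtain ⟨o, ho, hog⟩ := Constrained.exists_mul_mem_centralizer (x := g) hOp hP fun u hu => by
      rw [← QuotientGroup.eq_one_iff]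
      have h := mem_centralizer_iff.1 hx (π u) ⟨u, hu, rfl⟩
      change π u * π g = π g * π u at h
      change π (g * u * g⁻¹ * u⁻¹) = 1
      rw [map_mul, map_mul, map_mul, map_inv, map_inv, ← h]
      group
    have h1 := le_normalizer_map π (mem_map_of_mem π (hn hog))
    have h2 : π (o * g) = π g := by
      rw [map_mul, hπ, QuotientGroup.mk'_apply O o, (QuotientGroup.eq_one_iff o).2 ho, one_mul]
    rwa [h2] at h1

/-- The characteristic `p` case of `le_pPrimeCore_of_omega`. -/
theorem eq_bot_of_fixed_omega (hX : Constrained.IsCharP p G) (hp : p ≠ 2) {A Y : Subgroup G}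
    (hA : IsPGroup p A) (hY : (Nat.card Y).Coprime p) (hAY : A ≤ normalizer (Y : Set G))
    (hfix : ∀ x ∈ Cfsg.pCore p G, x ∈ centralizer (A : Set G) → x ^ p = 1 →
      x ∈ centralizer (Y : Set G)) : Y = ⊥ := by
  set R := Cfsg.pCore p G with hR
  have hRp : IsPGroup p R := Cores.isPGroup_pCore p G
  have hRn : R.Normal := Cores.pCore_normal p G
  obtain ⟨H, hH⟩ := PGroup.exists_critical (G := R) hRp
  haveI := hH.char
  set K := H.map R.subtype with hK
  have hKR : K ≤ R := map_subtype_le H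
  haveI hKn : K.Normal := Cores.map_subtype_normal_of_characteristic R H
  have hKn' : ∀ S : Subgroup G, S ≤ normalizer (K : Set G) := fun S => by
    rw [normalizer_eq_top]; exact le_top
  have hcent : ∀ a b : K, ⁅a, b⁆ ∈ center K := by
    rintro ⟨_, a, ha, rfl⟩ ⟨_, b, hb, rfl⟩
    rw [mem_center_iff]
    rintro ⟨_, c, hc, rfl⟩
    exact Subtype.ext (congrArg (fun z : R => (z : G))
      (mem_centralizer_iff.1 (hH.comm_mem a ha b).2 c hc))
  -- the elements of order dividing `p` in `K`
  let W : Subgroup G :=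
    { carrier := {x | x ∈ K ∧ x ^ p = 1}
      one_mem' := ⟨K.one_mem, one_pow p⟩
      mul_mem' := fun {a b} ha hb => ⟨K.mul_mem ha.1 hb.1, by
        have h1 : (⟨b, hb.1⟩ : K) ^ p = 1 := Subtype.ext (by simpa using hb.2)
        have h2 : (⟨a, ha.1⟩ : K) ^ p = 1 := Subtype.ext (by simpa using ha.2)
        have h3 := PGroup.mul_pow_classTwo Fact.out hp hcent (x := (⟨a, ha.1⟩ : K))
          (y := (⟨b, hb.1⟩ : K)) (h1 ▸ one_mem _)
        rw [h1, h2, one_mul] at h3
        simpa using congrArg Subtype.val h3⟩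
      inv_mem' := fun {a} ha => ⟨K.inv_mem ha.1, by rw [inv_pow, ha.2, inv_one]⟩ }
  have hWK : W ≤ K := fun x hx => hx.1
  have hWn : ∀ S : Subgroup G, S ≤ normalizer (W : Set G) := fun S =>
    le_normalizer_of_conj_mem fun s _ x hx => ⟨hKn.conj_mem _ hx.1 s, by
      rw [conj_pow, hx.2, mul_one, mul_inv_cancel]⟩
  have hWc : ∀ a b : W, ⁅a, b⁆ ∈ center W := fun a b => by
    rw [mem_center_iff]
    intro c
    have h := mem_center_iff.1 (hcent ⟨a, hWK a.2⟩ ⟨b, hWK b.2⟩) ⟨c, hWK c.2⟩
    exact Subtype.ext (congrArg (fun z : K => (z : G)) h)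
  have hYW : Y ≤ centralizer (W : Set G) :=
    Baer.le_centralizer_of_fixed hp hA hY (hRp.to_le (hWK.trans hKR)) hWc hAY (hWn A) (hWn Y)
      fun x hx => hfix x (hKR hx.1.1) hx.2 hx.1.2
  have hYK : Y ≤ centralizer (K : Set G) :=
    Coprime.le_centralizer_of_fixing_order_p p hp (hRp.to_le hKR) (hKn' Y) hY fun x hx hx' =>
      le_centralizer_iff.1 hYW ⟨hx, hx' ▸ pow_orderOf_eq_one x⟩
  have hKY : K ≤ centralizer (Y : Set G) := le_centralizer_iff.1 hYK
  have hYR : Y ≤ centralizer (R : Set G) := by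
    refine Coprime.thompson_pq p (hRp.to_le hKR) hY hRp hKY (le_normalizer.trans' hKR)
      (by rw [normalizer_eq_top]; exact le_top) fun x hx => ?_
    refine hKY ⟨⟨x, hx.1⟩, hH.self_centralizing ?_, rfl⟩
    exact mem_centralizer_iff.2 fun k hk =>
      Subtype.ext (mem_centralizer_iff.1 hx.2 k ⟨k, hk, rfl⟩)
  have hcop : (Nat.card Y).Coprime (Nat.card R) := Coprime.coprime_of_isPGroup hY hRp
  rw [eq_bot_iff]
  intro y hy
  exact mem_bot.2 (Coprime.eq_one_of_mem_of_mem hcop hy (hX (hYR hy)))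

/-- Odd `p`, `p`-constrained: if `A` is a `p`-group containing the elements of order `p` of its
centraliser, then `A`-invariant `p'`-subgroups lie in `O_{p'}`. -/
theorem le_pPrimeCore_of_omega (hX : Cfsg.IsPConstrained p G) (hp : p ≠ 2) {A Y : Subgroup G}
    (hA : IsPGroup p A) (hΩ : ∀ x ∈ centralizer (A : Set G), orderOf x = p → x ∈ A)
    (hY : (Nat.card Y).Coprime p) (hAY : A ≤ normalizer (Y : Set G)) :
    Y ≤ Cfsg.pPrimeCore p G := by
  set O := Cfsg.pPrimeCore p G with hO
  set π := QuotientGroup.mk' O with hπ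
  haveI : O.Normal := Cores.pPrimeCore_normal p G
  have hOp : ¬ p ∣ Nat.card O := Cores.not_dvd_card_pPrimeCore
  suffices h : Y.map π = ⊥ by
    rw [Subgroup.map_eq_bot_iff, hπ, QuotientGroup.ker_mk'] at h
    exact h
  have hY' : (Nat.card (Y.map π)).Coprime p := Nat.Coprime.coprime_dvd_left (Y.card_map_dvd π) hY
  have hAY' : A.map π ≤ normalizer (Y.map π : Set (G ⧸ O)) :=
    le_trans (map_mono hAY) (le_normalizer_map π)
  refine eq_bot_of_fixed_omega (Constrained.isPConstrained_iff.1 hX) hp (A := A.map π) (hA.map π)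
    hY' hAY' fun x hxR hxA hxp => ?_
  -- `x` lies in the image of `A`
  have hxA' : x ∈ A.map π := by
    obtain ⟨g, rfl⟩ := QuotientGroup.mk'_surjective O x
    obtain ⟨o, ho, hog⟩ := Constrained.exists_mul_mem_centralizer (x := g) hOp hA fun u hu => by
      rw [← QuotientGroup.eq_one_iff]
      have h := mem_centralizer_iff.1 hxA (π u) ⟨u, hu, rfl⟩
      change π u * π g = π g * π u at h
      change π (g * u * g⁻¹ * u⁻¹) = 1
      rw [map_mul, map_mul, map_mul, map_inv, map_inv, ← h]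
      group
    have h2 : π (o * g) = π g := by
      rw [map_mul, hπ, QuotientGroup.mk'_apply O o, (QuotientGroup.eq_one_iff o).2 ho, one_mul]
    set s := (o * g) ^ Nat.card O with hs
    have hsp : s ^ p = 1 := by
      have h1 : (o * g) ^ p ∈ O := by
        rw [← QuotientGroup.eq_one_iff]
        change π ((o * g) ^ p) = 1
        rw [map_pow, h2]
        exact hxp
      rw [hs, ← pow_mul, mul_comm, pow_mul]
      exact congrArg Subtype.val (pow_card_eq_one' (x := (⟨_, h1⟩ : O)))
    have hsA : s ∈ A := by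
      by_cases h1 : s = 1
      · rw [h1]; exact A.one_mem
      · exact hΩ s (pow_mem hog _) (orderOf_eq_prime hsp h1)
    refine Coprime.mem_of_pow_mem (n := Nat.card O) ?_ ⟨s, hsA, by rw [hs, map_pow, h2]⟩
    exact Nat.Coprime.coprime_dvd_left (orderOf_dvd_of_pow_eq_one hxp)
      ((Fact.out : p.Prime).coprime_iff_not_dvd.2 hOp)
  rw [mem_centralizer_iff]
  intro y hy
  have h1 : x * y * x⁻¹ * y⁻¹ ∈ Y.map π :=
    mul_mem (conj_mem hAY' hxA' hy) (inv_mem hy)
  have h3 : x * y * x⁻¹ * y⁻¹ ∈ Cfsg.pCore p (G ⧸ O) := by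
    have := mul_mem hxR ((Cores.pCore_normal p (G ⧸ O)).conj_mem _ (inv_mem hxR) y)
    simpa [mul_assoc] using this
  have h4 := Coprime.eq_one_of_mem_of_mem
    (Coprime.coprime_of_isPGroup hY' (Cores.isPGroup_pCore p _)) h1 h3
  calc y * x = (x * y * x⁻¹ * y⁻¹)⁻¹ * (x * y) := by group
    _ = x * y := by rw [h4, inv_one, one_mul]

end Cfsg.Agent.Signalizer
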