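import Cfsg.Agent.Lib.Signalizer.Basic
import Cfsg.Agent.Lib.Solvable.Basic
import Cfsg.Agent.Lib.Cores.Basic
import Cfsg.Agent.Lib.Coprime.PQ

/-!
# Completeness of signalizer functors inside a solvable `p'`-group

* `le_normalizer_iSup_inf`: the closure of `θ a ⊓ L` is normalised by every `θ b`
* `le_sup_of_quotient`: the inductive step through a quotient
* `inf_centralizer_le_of_ambient`: rank three, all values in a solvable invariant `p'`-group
-/

set_option autoImplicit false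

namespace Cfsg.Agent.Signalizer

open Subgroup
open scoped Pointwise commutatorElement

universe u

variable {G : Type u} [Group G] {p : ℕ} {A : Subgroup G} {θ : G → Subgroup G}

theorem isSignalizerFunctor_inf {L : Subgroup G} (hθ : Cfsg.IsSignalizerFunctor p A θ)
    (hAL : A ≤ normalizer (L : Set G)) : Cfsg.IsSignalizerFunctor p A (fun a => θ a ⊓ L) :=
  ⟨fun a ha ha1 => inf_le_left.trans (hθ.1 a ha ha1),
    fun a ha ha1 => not_dvd_card_of_le inf_le_left (hθ.2.1 a ha ha1),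
    fun a ha ha1 b hb x hx => ⟨hθ.2.2.1 a ha ha1 b hb x hx.1, conj_mem hAL hb hx.2⟩,
    fun a ha ha1 b hb hb1 => fun x hx => ⟨hθ.2.2.2 a ha ha1 b hb hb1 ⟨hx.1.1, hx.2⟩, hx.1.2⟩⟩

theorem le_normalizer_inf_theta (hθ : Cfsg.IsSignalizerFunctor p A θ) {L : Subgroup G}
    (hAL : A ≤ normalizer (L : Set G)) :
    A ≤ normalizer ((⨆ a : {a : G // a ∈ A ∧ a ≠ 1}, θ a ⊓ L : Subgroup G) : Set G) :=
  le_normalizer_iSup fun a => le_normalizer_inf (invariant_theta hθ a.2.1 a.2.2) hAL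

theorem exists_ne_one_mem_inf_hyperplanes [Finite G] [Fact p.Prime] {H H' : Subgroup G}
    (hA3 : p ^ 3 ≤ Nat.card A) (hH : H ≤ A) (hi : H.relIndex A = p) (hH' : H' ≤ A)
    (hi' : H'.relIndex A = p) : ∃ d ∈ H ⊓ H', d ≠ 1 := by
  have hp := (Fact.out : p.Prime).two_le
  refine exists_ne_one_of_ne_bot ?_
  intro hbot
  have h1 := card_hyperplane_mul hH hi
  have h2 : (H ⊓ H').relIndex H ≤ H'.relIndex A := by
    rw [inf_comm, inf_relIndex_right]
    exact relIndex_le_of_le_right hH (by rw [hi']; omega)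
  rw [hbot, relIndex_bot_left, hi'] at h2
  have h3 : p ^ 3 ≤ p ^ 2 := by
    rw [← h1] at hA3
    calc p ^ 3 ≤ Nat.card H * p := hA3
      _ ≤ p * p := Nat.mul_le_mul_right p h2
      _ = p ^ 2 := (sq p).symm
  exact absurd ((Nat.pow_le_pow_iff_right (by omega)).1 h3) (by norm_num)
where
  exists_ne_one_of_ne_bot {K : Subgroup G} (h : K ≠ ⊥) : ∃ d ∈ K, d ≠ 1 := by
    by_contra hc
    push Not at hc
    exact h ((Subgroup.eq_bot_iff_forall K).2 hc)

/-- The closure of `θ a ⊓ L` is normalised by every `θ b`. -/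
theorem le_normalizer_iSup_inf [Finite G] [Fact p.Prime] (hA : Cfsg.IsElementaryAbelian p A)
    (hA3 : p ^ 3 ≤ Nat.card A) (hθ : Cfsg.IsSignalizerFunctor p A θ) {L : Subgroup G}
    (hAL : A ≤ normalizer (L : Set G)) {b : G} (hb : b ∈ A) (hb1 : b ≠ 1)
    (hbL : θ b ≤ normalizer (L : Set G)) :
    θ b ≤ normalizer ((⨆ a : {a : G // a ∈ A ∧ a ≠ 1}, θ a ⊓ L : Subgroup G) : Set G) := by
  have hA1 : A ≠ ⊥ := ne_bot_of_pow_le three_ne_zero hA3
  set R := ⨆ a : {a : G // a ∈ A ∧ a ≠ 1}, θ a ⊓ L with hR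
  refine le_of_hyperplanes hA hA1 _ _ (hθ.2.1 b hb hb1) (invariant_theta hθ hb hb1)
    fun H hH hi x hx => mem_normalizer_of_conj_mem fun y hy => ?_
  suffices h : R ≤ R.comap (MulAut.conj x).toMonoidHom from h hy
  refine iSup_le fun c => le_of_hyperplanes hA hA1 _ _
    (not_dvd_card_of_le inf_le_left (hθ.2.1 c c.2.1 c.2.2))
    (le_normalizer_inf (invariant_theta hθ c.2.1 c.2.2) hAL) fun H' hH' hi' z hz => ?_
  obtain ⟨d, hd, hd1⟩ := exists_ne_one_mem_inf_hyperplanes hA3 hH hi hH' hi'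
  have hdA : d ∈ A := hH hd.1
  have hxd : x ∈ θ d :=
    hθ.2.2.2 b hb hb1 d hdA hd1 ⟨hx.1, centralizer_le_singleton hd.1 hx.2⟩
  have hzd : z ∈ θ d :=
    hθ.2.2.2 c c.2.1 c.2.2 d hdA hd1 ⟨hz.1.1, centralizer_le_singleton hd.2 hz.2⟩
  refine Subgroup.mem_comap.2 (le_iSup (fun a : {a : G // a ∈ A ∧ a ≠ 1} => θ a ⊓ L) ⟨d, hdA, hd1⟩ ?_)
  exact ⟨(θ d).mul_mem ((θ d).mul_mem hxd hzd) ((θ d).inv_mem hxd),
    conj_mem hbL hx.1 hz.1.2⟩

/-- The traces on an abelian invariant `p'`-group generate a subgroup with centralisers in `θ`. -/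
theorem iSup_inf_centralizer_le_of_abelian [Finite G] [Fact p.Prime]
    (hθ : Cfsg.IsSignalizerFunctor p A θ) {N : Subgroup G}
    (hN : ∀ x ∈ N, ∀ y ∈ N, x * y = y * x) (hp : ¬ p ∣ Nat.card N) (hA : ∀ a ∈ A, a ^ p = 1)
    (hAN : A ≤ normalizer (N : Set G)) {a : G} (ha : a ∈ A) (ha1 : a ≠ 1) :
    (⨆ c : {c : G // c ∈ A ∧ c ≠ 1}, θ c ⊓ N) ⊓ centralizer ({a} : Set G) ≤ θ a := by
  classical
  cases nonempty_fintype G
  suffices h : ∀ s : Finset {c : G // c ∈ A ∧ c ≠ 1},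
      (s.sup fun c => θ c.1 ⊓ N) ⊓ centralizer ({a} : Set G) ≤ θ a by
    refine le_trans (inf_le_inf_right _ (iSup_le fun c => ?_)) (h Finset.univ)
    exact Finset.le_sup (f := fun c : {c : G // c ∈ A ∧ c ≠ 1} => θ c.1 ⊓ N) (Finset.mem_univ c)
  intro s
  induction s using Finset.induction with
  | empty => simp
  | @insert c s hc ih =>
    rw [Finset.sup_insert]
    have hcN : θ c.1 ⊓ N ≤ N := inf_le_right
    have hsN : (s.sup fun c => θ c.1 ⊓ N) ≤ N := Finset.sup_le fun d _ => inf_le_right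
    have hsA : a ∈ normalizer ((s.sup fun c => θ c.1 ⊓ N : Subgroup G) : Set G) := by
      rw [Finset.sup_eq_iSup]
      exact le_normalizer_iSup (fun d => le_normalizer_iSup fun _ =>
        le_normalizer_inf (invariant_theta hθ d.2.1 d.2.2) hAN) ha
    refine le_trans (inf_centralizer_singleton_sup (hA a ha)
      (le_normalizer_inf (invariant_theta hθ c.2.1 c.2.2) hAN ha) hsA
      (le_normalizer_of_commute fun x hx y hy => hN x (hsN hx) y (hcN hy))
      (not_dvd_card_of_le (inf_le_left.trans hcN) hp)) (sup_le ?_ ih)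
    exact le_trans (inf_le_inf_right _ inf_le_left) (hθ.2.2.2 c c.2.1 c.2.2 a ha ha1)


variable (p) in
/-- The statement proved by induction in `inf_centralizer_le_of_ambient`. -/
def AmbientStatement (n : ℕ) : Prop :=
  ∀ {G : Type u} [Group G] [Finite G] (A M : Subgroup G) (θ : G → Subgroup G),
    Nat.card M = n → Cfsg.IsElementaryAbelian p A → p ^ 3 ≤ Nat.card A → Group.IsSolvable M →
    ¬ p ∣ Nat.card M → A ≤ normalizer (M : Set G) → Cfsg.IsSignalizerFunctor p A θ →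
    (∀ a ∈ A, a ≠ 1 → θ a ≤ M) → ∀ a ∈ A, a ≠ 1 →
    Cfsg.signalizerClosure A θ ⊓ centralizer ({a} : Set G) ≤ θ a

/-- The inductive step through a quotient. -/
theorem le_sup_of_quotient [Finite G] [hp : Fact p.Prime] (hA : Cfsg.IsElementaryAbelian p A)
    (hA3 : p ^ 3 ≤ Nat.card A) {M : Subgroup G} (hMs : Group.IsSolvable M)
    (hMp : ¬ p ∣ Nat.card M) (hAM : A ≤ normalizer (M : Set G))
    (hθ : Cfsg.IsSignalizerFunctor p A θ) (hle : ∀ a ∈ A, a ≠ 1 → θ a ≤ M)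
    (hgen : M ≤ Cfsg.signalizerClosure A θ)
    (IH : ∀ m < Nat.card M, AmbientStatement.{u} p m) {N : Subgroup G} (hNM : N ≤ M)
    (hN1 : N ≠ ⊥) (hMN : M ≤ normalizer (N : Set G)) (hAN : A ≤ normalizer (N : Set G))
    {a : G} (ha : a ∈ A) (ha1 : a ≠ 1) :
    M ⊓ centralizer ({a} : Set G) ≤ θ a ⊔ (N ⊓ centralizer ({a} : Set G)) := by
  set H := normalizer (N : Set G) with hH
  set N' := N.subgroupOf H with hN'
  haveI : N'.Normal := normal_subgroupOf_of_le_normalizer le_rfl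
  set π := QuotientGroup.mk' N' with hπ
  have hπ1 : ∀ {x : H}, π x = 1 ↔ (x : G) ∈ N := fun {x} => by
    rw [hπ, QuotientGroup.mk'_apply, QuotientGroup.eq_one_iff, hN', mem_subgroupOf]
  have hAN1 : ∀ {x : H}, (x : G) ∈ A → π x = 1 → x = 1 := by
    intro x hxA hx
    refine Subtype.ext (orderOf_eq_one_iff.1 (((Nat.dvd_prime hp.out).1
      (orderOf_dvd_of_pow_eq_one (hA.2 _ hxA))).resolve_right fun h => hMp ?_))
    rw [← h]
    exact (Subgroup.orderOf_mk (x : G) (hNM (hπ1.1 hx)) ▸ orderOf_dvd_natCard _ :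
      orderOf (x : G) ∣ Nat.card M)
  set f : Subgroup G → Subgroup (H ⧸ N') := fun X => (X.subgroupOf H).map π with hf
  let θ' : H ⧸ N' → Subgroup (H ⧸ N') := fun u =>
    ⨆ c : {c : H // (c : G) ∈ A ∧ (c : G) ≠ 1 ∧ π c = u}, f (θ (c.1 : G))
  have hθ' : ∀ c : H, (c : G) ∈ A → (c : G) ≠ 1 → θ' (π c) = f (θ c) := by
    intro c hc hc1
    refine le_antisymm (iSup_le fun d => ?_) (le_iSup_of_le ⟨c, hc, hc1, rfl⟩ le_rfl)
    have h : (c : H)⁻¹ * d.1 = 1 := hAN1 (A.mul_mem (A.inv_mem hc) d.2.1)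
      (by rw [map_mul, map_inv, d.2.2.2, inv_mul_cancel])
    rw [← inv_mul_eq_one.1 h]
  have hA' : ∀ u ∈ f A, u ≠ 1 → ∃ c : H, (c : G) ∈ A ∧ (c : G) ≠ 1 ∧ π c = u := by
    rintro _ ⟨c, hc, rfl⟩ hu
    exact ⟨c, hc, fun h => hu (by rw [(Subtype.ext h : c = 1), map_one]), rfl⟩
  have hinv : ∀ {X Y : Subgroup G}, A ≤ normalizer (X : Set G) → X = Y →
      ∀ u ∈ f A, ∀ z ∈ f Y, u * z * u⁻¹ ∈ f Y := by
    rintro X Y hX rfl _ ⟨b, hb, rfl⟩ _ ⟨z, hz, rfl⟩
    exact ⟨b * z * b⁻¹, conj_mem hX hb hz, by simp only [map_mul, map_inv]⟩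
  have hdvd : ∀ {X : Subgroup G}, ¬ p ∣ Nat.card X → X ≤ H → ¬ p ∣ Nat.card (f X) := by
    intro X hX hXH h
    exact hX (h.trans ((card_map_dvd _ π).trans (dvd_of_eq (Cores.card_subgroupOf hXH))))
  have hθH : ∀ c ∈ A, c ≠ 1 → θ c ≤ H := fun c hc hc1 => (hle c hc hc1).trans hMN
  have hfun : Cfsg.IsSignalizerFunctor p (f A) θ' := by
    refine ⟨?_, ?_, ?_, ?_⟩
    · intro u hu hu1
      obtain ⟨c, hc, hc1, rfl⟩ := hA' u hu hu1
      rw [hθ' c hc hc1]
      rintro _ ⟨z, hz, rfl⟩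
      refine mem_centralizer_singleton_iff.2 ?_
      rw [← map_mul, ← map_mul]
      exact congrArg π (Subtype.ext (mem_centralizer_singleton_iff.1 (hθ.1 c hc hc1 hz)))
    · intro u hu hu1
      obtain ⟨c, hc, hc1, rfl⟩ := hA' u hu hu1
      rw [hθ' c hc hc1]
      exact hdvd (hθ.2.1 c hc hc1) (hθH c hc hc1)
    · intro u hu hu1 v hv
      obtain ⟨c, hc, hc1, rfl⟩ := hA' u hu hu1
      rw [hθ' c hc hc1]
      exact hinv (invariant_theta hθ hc hc1) rfl v hv
    · intro u hu hu1 v hv hv1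
      obtain ⟨c, hc, hc1, rfl⟩ := hA' u hu hu1
      obtain ⟨d, hd, hd1, rfl⟩ := hA' v hv hv1
      rw [hθ' c hc hc1, hθ' d hd hd1]
      refine le_trans (map_inf_centralizer_le_map N' (Subtype.ext (by simpa using hA.2 _ hd))
        (by rw [Cores.card_subgroupOf (hθH c hc hc1)]; exact hθ.2.1 c hc hc1)
        (Coprime.mem_normalizer_of_forall fun y hy => conj_mem (invariant_theta hθ hc hc1) hd hy)) ?_
      rintro _ ⟨z, ⟨hz, hzd⟩, rfl⟩
      exact mem_map_of_mem π (show (z : G) ∈ θ (d : G) from hθ.2.2.2 c hc hc1 d hd hd1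
        ⟨hz, mem_centralizer_singleton_iff.2
          (congrArg Subtype.val (mem_centralizer_singleton_iff.1 hzd))⟩)
  have hel : Cfsg.IsElementaryAbelian p (f A) := by
    refine ⟨⟨⟨?_⟩⟩, ?_⟩
    · rintro ⟨_, x, hx, rfl⟩ ⟨_, y, hy, rfl⟩
      refine Subtype.ext ?_
      change π x * π y = π y * π x
      rw [← map_mul, ← map_mul]
      exact congrArg π (Subtype.ext (commute_of_isMulCommutative hA.1 hx hy))
    · rintro _ ⟨x, hx, rfl⟩
      rw [← map_pow, show x ^ p = 1 from Subtype.ext (by simpa using hA.2 _ hx), map_one]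
  have hcard : Nat.card (f A) = Nat.card A := by
    rw [← Cores.card_subgroupOf hAN]
    refine Nat.card_congr (Equiv.ofBijective
      (fun x : A.subgroupOf H => (⟨π x, mem_map_of_mem π x.2⟩ : f A)) ⟨?_, ?_⟩).symm
    · intro x y h
      have h' : π (x : H) = π (y : H) := congrArg Subtype.val h
      exact Subtype.ext (inv_mul_eq_one.1 (hAN1 (A.mul_mem (A.inv_mem x.2) y.2)
        (by rw [map_mul, map_inv, h', inv_mul_cancel])))
    · rintro ⟨_, x, hx, rfl⟩
      exact ⟨⟨x, hx⟩, rfl⟩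
  have hlt : Nat.card (f M) < Nat.card M := by
    have h0 := Subgroup.relIndex_ker (M.subgroupOf H) π
    rw [show π.ker = N' from QuotientGroup.ker_mk' N'] at h0
    rw [show Nat.card (f M) = N.relIndex M from h0.symm.trans (relIndex_subgroupOf hMN)]
    have h1 := relIndex_mul_relIndex ⊥ N M bot_le hNM
    rw [relIndex_bot_left, relIndex_bot_left] at h1
    have h2 := N.one_lt_card_iff_ne_bot.2 hN1
    have h3 : 0 < N.relIndex M := Nat.pos_of_ne_zero fun h => by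
      rw [h, mul_zero] at h1; exact Nat.card_pos.ne h1
    rw [← h1]
    exact (lt_mul_iff_one_lt_left h3).2 h2
  haveI := hMs
  have hsol : Group.IsSolvable (f M) := by
    haveI : Group.IsSolvable (M.subgroupOf H) :=
      Group.isSolvable_of_isSolvable_injective (f := (subgroupOfEquivOfLe hMN).toMonoidHom)
        (subgroupOfEquivOfLe hMN).injective
    exact Group.isSolvable_of_surjective (π.subgroupMap_surjective (M.subgroupOf H))
  have hmain := IH _ hlt (f A) (f M) θ' rfl hel (hcard ▸ hA3) hsol (hdvd hMp hMN)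
    (le_normalizer_of_conj_mem (hinv hAM rfl)) hfun (fun u hu hu1 => by
      obtain ⟨c, hc, hc1, rfl⟩ := hA' u hu hu1
      rw [hθ' c hc hc1]
      exact map_mono (fun z hz => hle c hc hc1 hz))
  intro x hx
  have haH : a ∈ H := hAN ha
  have hxH : x ∈ H := hMN hx.1
  have hπa : π ⟨a, haH⟩ ≠ 1 := fun h => ha1 (congrArg Subtype.val (hAN1 (x := ⟨a, haH⟩) ha h))
  have hclo : M ≤ ((Cfsg.signalizerClosure (f A) θ').comap π).map H.subtype := by
    refine hgen.trans (iSup_le fun c z hz => ?_)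
    have hcH : (c : G) ∈ H := hAN c.2.1
    refine ⟨⟨z, hθH c c.2.1 c.2.2 hz⟩, mem_comap.2 ?_, rfl⟩
    refine le_iSup (fun u : {u : H ⧸ N' // u ∈ f A ∧ u ≠ 1} => θ' u)
      ⟨π ⟨c, hcH⟩, mem_map_of_mem π c.2.1,
        fun h => c.2.2 (congrArg Subtype.val (hAN1 (x := ⟨c, hcH⟩) c.2.1 h))⟩ ?_
    change π _ ∈ θ' (π ⟨c, hcH⟩)
    rw [hθ' ⟨c, hcH⟩ c.2.1 c.2.2]
    exact mem_map_of_mem π hz
  obtain ⟨x', hx', hxe⟩ := hclo hx.1
  obtain rfl : x' = ⟨x, hxH⟩ := Subtype.ext hxe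
  have h := hmain (π ⟨a, haH⟩) (mem_map_of_mem π ha) hπa ⟨hx', mem_centralizer_singleton_iff.2 (by
    rw [← map_mul, ← map_mul]
    exact congrArg π (Subtype.ext (mem_centralizer_singleton_iff.1 hx.2)))⟩
  rw [hθ' ⟨a, haH⟩ ha ha1] at h
  obtain ⟨t, ht, hte⟩ := h
  have hn : (t : G)⁻¹ * x ∈ N := (hπ1 (x := t⁻¹ * ⟨x, hxH⟩)).1
    (by rw [map_mul, map_inv, hte, inv_mul_cancel])
  have hc : (t : G)⁻¹ * x ∈ centralizer ({a} : Set G) :=
    mul_mem (inv_mem (hθ.1 a ha ha1 ht)) hx.2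
  rw [← mul_inv_cancel_left (t : G) x]
  exact mul_mem (mem_sup_left ht) (mem_sup_right ⟨hn, hc⟩)


/-- A signalizer functor of rank three with values in a solvable invariant `p'`-group is complete. -/
theorem ambientStatement_holds [hp : Fact p.Prime] (n : ℕ) : AmbientStatement.{u} p n := by
  induction n using Nat.strong_induction_on with
  | _ n IH =>
  intro G _ _ A M θ hn hA hA3 hMs hMp hAM hθ hle a ha ha1
  subst hn
  set W := Cfsg.signalizerClosure A θ with hW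
  have hWM : W ≤ M := iSup_le fun c => hle c c.2.1 c.2.2
  have hAW : A ≤ normalizer (W : Set G) :=
    le_normalizer_iSup fun c => invariant_theta hθ c.2.1 c.2.2
  haveI := hMs
  by_cases hWM' : W = M
  swap
  · exact IH _ (lt_of_le_of_ne (Subgroup.card_le_of_le hWM) fun h =>
        hWM' (Subgroup.eq_of_le_of_card_ge hWM h.ge))
      A W θ rfl hA hA3 (Group.isSolvable_of_isSolvable_injective (Subgroup.inclusion_injective hWM))
      (not_dvd_card_of_le hWM hMp) hAW hθ (fun c hc hc1 => le_iSup_of_le ⟨c, hc, hc1⟩ le_rfl) a ha ha1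
  rw [hWM']
  have hgen : M ≤ W := hWM'.ge
  -- it suffices to find an invariant normal subgroup whose centralisers lie in `θ`
  have good : ∀ X : Subgroup G, X ≤ M → X ≠ ⊥ → M ≤ normalizer (X : Set G) →
      A ≤ normalizer (X : Set G) → (∀ c ∈ A, c ≠ 1 → X ⊓ centralizer ({c} : Set G) ≤ θ c) →
      M ⊓ centralizer ({a} : Set G) ≤ θ a := fun X hXM hX1 hMX hAX hX =>
    (le_sup_of_quotient hA hA3 hMs hMp hAM hθ hle hgen IH hXM hX1 hMX hAX ha ha1).trans
      (sup_le le_rfl (hX a ha ha1))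
  by_cases hM1 : M = ⊥
  · rw [hM1, bot_inf_eq]; exact bot_le
  obtain ⟨N, ⟨hN1, hNM, hMN, hAN⟩, hNmin⟩ := (wellFounded_lt (α := Subgroup G)).has_min
    {X : Subgroup G | X ≠ ⊥ ∧ X ≤ M ∧ M ≤ normalizer (X : Set G) ∧ A ≤ normalizer (X : Set G)}
    ⟨M, hM1, le_rfl, le_normalizer, hAM⟩
  haveI : Group.IsSolvable N :=
    Group.isSolvable_of_isSolvable_injective (Subgroup.inclusion_injective hNM)
  have hNc : ∀ x ∈ N, ∀ y ∈ N, x * y = y * x := by
    have hlt := Solvable.commutator_lt_of_solvable hN1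
    have h0 : ⁅N, N⁆ = ⊥ := by
      by_contra h
      exact hNmin _ ⟨h, hlt.le.trans hNM, Coprime.le_normalizer_commutator hMN hMN,
        Coprime.le_normalizer_commutator hAN hAN⟩ hlt
    intro x hx y hy
    exact mem_centralizer_iff.1 (commutator_eq_bot_iff_le_centralizer.1 h0 hy) x hx
  have hθN : ∀ c ∈ A, c ≠ 1 → θ c ≤ normalizer (N : Set G) := fun c hc hc1 =>
    (hle c hc hc1).trans hMN
  by_cases hN0 : (⨆ c : {c : G // c ∈ A ∧ c ≠ 1}, θ c ⊓ N) = ⊥
  swap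
  · exact good _ (iSup_le fun c => inf_le_right.trans hNM) hN0
      (hgen.trans (iSup_le fun b => le_normalizer_iSup_inf hA hA3 hθ hAN b.2.1 b.2.2
        (hθN b b.2.1 b.2.2)))
      (le_normalizer_inf_theta hθ hAN) fun c hc hc1 =>
        iSup_inf_centralizer_le_of_abelian hθ hNc (not_dvd_card_of_le hNM hMp) hA.2 hAN hc hc1
  have hθN1 : ∀ c ∈ A, c ≠ 1 → θ c ⊓ N = ⊥ := fun c hc hc1 => le_bot_iff.1
    ((le_iSup (fun c : {c : G // c ∈ A ∧ c ≠ 1} => θ c ⊓ N) ⟨c, hc, hc1⟩).trans hN0.le)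
  have hNM' : N < M := by
    refine lt_of_le_of_ne hNM fun h => hM1 (le_bot_iff.1 (hgen.trans (iSup_le fun c => ?_)))
    rw [← hθN1 c c.2.1 c.2.2]
    exact le_inf le_rfl ((hle c c.2.1 c.2.2).trans h.ge)
  have hA2 : p ^ 2 ≤ Nat.card A := le_trans (Nat.pow_le_pow_right hp.out.pos (by omega)) hA3
  -- elements of `θ c ⊔ (N ⊓ C(c))` are products
  have hsup : ∀ c ∈ A, c ≠ 1 → ∀ x ∈ M, x ∈ centralizer ({c} : Set G) →
      ∃ t ∈ θ c, t⁻¹ * x ∈ N := by
    intro c hc hc1 x hxM hxc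
    have h : x ∈ θ c ⊔ N := (sup_le_sup le_rfl inf_le_left :
        θ c ⊔ (N ⊓ centralizer ({c} : Set G)) ≤ θ c ⊔ N)
      (le_sup_of_quotient hA hA3 hMs hMp hAM hθ hle hgen IH hNM hN1 hMN hAN hc hc1 ⟨hxM, hxc⟩)
    rw [← SetLike.mem_coe, coe_mul_of_left_le_normalizer_right _ _ (hθN c hc hc1)] at h
    obtain ⟨t, ht, n, hn, rfl⟩ := h
    exact ⟨t, ht, by simpa [mul_assoc] using hn⟩
  obtain ⟨L, ⟨hNL, hLM, hML, hAL⟩, hLmin⟩ := (wellFounded_lt (α := Subgroup G)).has_min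
    {X : Subgroup G | N < X ∧ X ≤ M ∧ M ≤ normalizer (X : Set G) ∧ A ≤ normalizer (X : Set G)}
    ⟨M, hNM', le_rfl, le_normalizer, hAM⟩
  by_cases hLM' : L = M
  swap
  · set R := ⨆ c : {c : G // c ∈ A ∧ c ≠ 1}, θ c ⊓ L with hR
    have hlt : Nat.card L < Nat.card M := lt_of_le_of_ne (Subgroup.card_le_of_le hLM) fun h =>
      hLM' (Subgroup.eq_of_le_of_card_ge hLM h.ge)
    have hR' := IH _ hlt A L (fun c => θ c ⊓ L) rfl hA hA3
      (Group.isSolvable_of_isSolvable_injective (Subgroup.inclusion_injective hLM))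
      (not_dvd_card_of_le hLM hMp) hAL (isSignalizerFunctor_inf hθ hAL) (fun _ _ _ => inf_le_right)
    refine good R (iSup_le fun c => inf_le_right.trans hLM) (fun hR0 => ?_)
      (hgen.trans (iSup_le fun b => le_normalizer_iSup_inf hA hA3 hθ hAL b.2.1 b.2.2
        ((hle b b.2.1 b.2.2).trans hML)))
      (le_normalizer_inf_theta hθ hAL) fun c hc hc1 => (hR' c hc hc1).trans inf_le_left
    refine hNL.not_ge (le_of_elements hA hA2 N L (not_dvd_card_of_le hLM hMp) hAL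
      fun c hc hc1 x hx => ?_)
    obtain ⟨t, ht, htn⟩ := hsup c hc hc1 x (hLM hx.1) hx.2
    have htL : t ∈ L := by
      have := L.mul_mem hx.1 (L.inv_mem (hNL.le htn))
      simpa [mul_assoc] using this
    have ht1 : t = 1 := by
      have : t ∈ R := le_iSup (fun c : {c : G // c ∈ A ∧ c ≠ 1} => θ c ⊓ L) ⟨c, hc, hc1⟩ ⟨ht, htL⟩
      rwa [hR0, mem_bot] at this
    simpa [ht1] using htn
  subst hLM'
  -- `L / N` is a minimal invariant section, so every `θ c` is a copy of it or trivial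
  have hcomm : ⁅L, L⁆ ≤ N := by
    by_contra hc
    have hlt : N < ⁅L, L⁆ ⊔ N := lt_of_le_of_ne le_sup_right fun h => hc (h.ge.trans' le_sup_left)
    have hle' : ⁅L, L⁆ ⊔ N ≤ L := sup_le (Subgroup.commutator_le_self L) hNM
    have heq : ⁅L, L⁆ ⊔ N = L := hle'.eq_or_lt.resolve_right (hLmin _ ⟨hlt, hle',
      le_normalizer_sup (Coprime.le_normalizer_commutator le_normalizer le_normalizer) hMN,
      le_normalizer_sup (Coprime.le_normalizer_commutator hAM hAM) hAN⟩)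
    haveI : (N.subgroupOf L).Normal := normal_subgroupOf_of_le_normalizer hMN
    haveI : Nontrivial (L ⧸ N.subgroupOf L) := QuotientGroup.nontrivial_iff.2
      fun h => hNM'.not_ge (subgroupOf_eq_top.1 h)
    refine (Group.IsSolvable.commutator_lt_top_of_nontrivial (L ⧸ N.subgroupOf L)).ne ?_
    have h1 : ⁅(⊤ : Subgroup L), ⊤⁆ ⊔ N.subgroupOf L = ⊤ := by
      refine map_injective L.subtype_injective ?_
      rw [Subgroup.map_sup, map_commutator, ← MonoidHom.range_eq_map, range_subtype,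
        subgroupOf_map_subtype, inf_eq_left.2 hNM]
      exact heq
    have h2 := congrArg (Subgroup.map (QuotientGroup.mk' (N.subgroupOf L))) h1
    rw [Subgroup.map_sup, map_commutator, ← MonoidHom.range_eq_map,
      QuotientGroup.range_mk', QuotientGroup.map_mk'_self, sup_bot_eq] at h2
    exact h2
  have key : ∀ c ∈ A, c ≠ 1 → ∀ Y : Subgroup G, Y ≤ θ c → A ≤ normalizer (Y : Set G) →
      Y ≠ ⊥ → Y = θ c := by
    intro c hc hc1 Y hY hAY hY1
    have hYN : Y ≤ normalizer (N : Set G) := hY.trans (hθN c hc hc1)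
    have hle' : N ⊔ Y ≤ L := sup_le hNM (hY.trans (hle c hc hc1))
    have hlt : N < N ⊔ Y := lt_of_le_of_ne le_sup_left fun h => hY1 (le_bot_iff.1
      ((le_inf hY (h ▸ le_sup_right)).trans (hθN1 c hc hc1).le))
    have heq : N ⊔ Y = L := hle'.eq_or_lt.resolve_right (hLmin _ ⟨hlt, hle',
      le_normalizer_of_conj_mem fun x hx y hy => by
        have h1 : ⁅x, y⁆ ∈ N := hcomm (commutator_mem_commutator hx (hle' hy))
        have h2 := (N ⊔ Y).mul_mem (mem_sup_left h1) hy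
        simpa [commutatorElement_def] using h2,
      le_normalizer_sup hAN hAY⟩)
    refine le_antisymm hY fun x hx => ?_
    have hx' : x ∈ N ⊔ Y := heq ▸ hle c hc hc1 hx
    rw [← SetLike.mem_coe, coe_mul_of_right_le_normalizer_left _ _ hYN] at hx'
    obtain ⟨m, hm, y, hy, rfl⟩ := hx'
    have : m ∈ θ c ⊓ N := ⟨by simpa using (θ c).mul_mem hx ((θ c).inv_mem (hY hy)), hm⟩
    rw [hθN1 c hc hc1, mem_bot] at this
    change m * y ∈ Y
    rwa [this, one_mul]
  have hhyp : ∀ c ∈ A, c ≠ 1 → θ c ≠ ⊥ → ∃ H ≤ A, H.relIndex A = p ∧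
      θ c ≤ centralizer (H : Set G) := by
    intro c hc hc1 hne
    by_contra hno
    refine hne (le_bot_iff.1 (le_of_hyperplanes hA (ne_bot_of_pow_le two_ne_zero hA2) ⊥ _
      (hθ.2.1 c hc hc1) (invariant_theta hθ hc hc1) fun H hH hi => ?_))
    by_contra h
    have := key c hc hc1 _ inf_le_left (le_normalizer_inf (invariant_theta hθ hc hc1)
      (le_normalizer_centralizer (le_normalizer_of_commute fun u hu v hv =>
        commute_of_isMulCommutative hA.1 hu (hH hv)))) (fun h' => h h'.le)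
    exact hno ⟨H, hH, hi, this ▸ inf_le_right⟩
  obtain ⟨c₀, hc₀, hc₀1, hne₀⟩ : ∃ c ∈ A, c ≠ 1 ∧ θ c ≠ ⊥ := by
    by_contra h
    push Not at h
    exact hM1 (le_bot_iff.1 (hgen.trans (iSup_le fun c => (h c c.2.1 c.2.2).le)))
  have hall : L ≤ θ c₀ := by
    refine hgen.trans (iSup_le fun c => ?_)
    by_cases hne : θ c = ⊥
    · rw [hne]; exact bot_le
    obtain ⟨H, hH, hi, hcH⟩ := hhyp c₀ hc₀ hc₀1 hne₀
    obtain ⟨H', hH', hi', hcH'⟩ := hhyp c c.2.1 c.2.2 hne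
    obtain ⟨d, hd, hd1⟩ := exists_ne_one_mem_inf_hyperplanes hA3 hH hi hH' hi'
    have hdA : d ∈ A := hH hd.1
    have e₀ : θ c₀ = θ d := key d hdA hd1 _
      (fun x hx => hθ.2.2.2 c₀ hc₀ hc₀1 d hdA hd1 ⟨hx, centralizer_le_singleton hd.1 (hcH hx)⟩)
      (invariant_theta hθ hc₀ hc₀1) hne₀
    have e : θ (c : G) = θ d := key d hdA hd1 _
      (fun x hx => hθ.2.2.2 c c.2.1 c.2.2 d hdA hd1 ⟨hx, centralizer_le_singleton hd.2 (hcH' hx)⟩)
      (invariant_theta hθ c.2.1 c.2.2) hne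
    rw [e, e₀]
  exact absurd (le_bot_iff.1 ((le_inf (hNM.trans hall) le_rfl).trans (hθN1 c₀ hc₀ hc₀1).le)) hN1

/-- A signalizer functor of rank three with values in a solvable invariant `p'`-group is complete. -/
theorem inf_centralizer_le_of_ambient [Finite G] [Fact p.Prime] (hA : Cfsg.IsElementaryAbelian p A)
    (hA3 : p ^ 3 ≤ Nat.card A) {M : Subgroup G} (hMs : Group.IsSolvable M)
    (hMp : ¬ p ∣ Nat.card M) (hAM : A ≤ normalizer (M : Set G))
    (hθ : Cfsg.IsSignalizerFunctor p A θ) (hle : ∀ a ∈ A, a ≠ 1 → θ a ≤ M) {a : G} (ha : a ∈ A)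
    (ha1 : a ≠ 1) : Cfsg.signalizerClosure A θ ⊓ centralizer ({a} : Set G) ≤ θ a :=
  ambientStatement_holds _ A M θ rfl hA hA3 hMs hMp hAM hθ hle a ha ha1

end Cfsg.Agent.Signalizer
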