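import Cfsg.Agent.Lib.Signalizer.PAction

/-!
# Basic lemmas on signalizer functors and their families

* `invariant_theta`, `theta_mem_family`, `mem_family_of_le`, `sup_mem_family`, `map_conj_mem_family`
* `signalizerInf_le`, `signalizerInf_le_centralizer`, `theta_inf_centralizer_le_inf`, `inf_mem_family`
* `map_inf_centralizer_le_map` – fixed points in a quotient by a normal subgroup
-/

set_option autoImplicit false

namespace Cfsg.Agent.Signalizer

open Subgroup
open scoped Pointwise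

variable {G : Type*} [Group G] {p q : ℕ} {A B : Subgroup G} {θ : G → Subgroup G}

theorem invariant_theta (hθ : Cfsg.IsSignalizerFunctor p A θ) {a : G} (ha : a ∈ A) (ha1 : a ≠ 1) :
    A ≤ normalizer (θ a : Set G) :=
  le_normalizer_of_conj_mem (hθ.2.2.1 a ha ha1)

theorem invariant_of_mem_family {U : Subgroup G} (hU : U ∈ Cfsg.signalizerFamily p A θ) :
    A ≤ normalizer (U : Set G) :=
  le_normalizer_of_conj_mem hU.2.2.1

theorem theta_mem_family (hθ : Cfsg.IsSolvableSignalizerFunctor p A θ) {a : G} (ha : a ∈ A)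
    (ha1 : a ≠ 1) : θ a ∈ Cfsg.signalizerFamily p A θ :=
  ⟨hθ.2 a ha ha1, hθ.1.2.1 a ha ha1, hθ.1.2.2.1 a ha ha1,
    fun b hb hb1 => hθ.1.2.2.2 a ha ha1 b hb hb1⟩

theorem mem_family_of_le {U V : Subgroup G} (hU : U ∈ Cfsg.signalizerFamily p A θ) (hVU : V ≤ U)
    (hAV : A ≤ normalizer (V : Set G)) : V ∈ Cfsg.signalizerFamily p A θ := by
  obtain ⟨hs, hp, -, hc⟩ := hU
  haveI := hs
  exact ⟨Group.isSolvable_of_isSolvable_injective (Subgroup.inclusion_injective hVU),
    not_dvd_card_of_le hVU hp, fun b hb u hu => conj_mem hAV hb hu,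
    fun a ha ha1 => (inf_le_inf_right _ hVU).trans (hc a ha ha1)⟩

/-- The product with a normal solvable subgroup. -/
theorem isSolvable_sup {X Y : Subgroup G} (hX : Group.IsSolvable X) (hY : Group.IsSolvable Y)
    (hYX : Y ≤ normalizer (X : Set G)) : Group.IsSolvable ↥(X ⊔ Y) := by
  haveI := hX; haveI := hY
  haveI hn : (X.subgroupOf (X ⊔ Y)).Normal :=
    Subgroup.normal_subgroupOf_of_le_normalizer (sup_le le_normalizer hYX)
  let π := (QuotientGroup.mk' (X.subgroupOf (X ⊔ Y))).comp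
    (Subgroup.inclusion (le_sup_right : Y ≤ X ⊔ Y))
  have hsurj : Function.Surjective π := by
    intro u
    obtain ⟨⟨g, hg⟩, rfl⟩ := QuotientGroup.mk'_surjective _ u
    have hg' : g ∈ (X : Set G) * (Y : Set G) := by
      rw [← Subgroup.coe_mul_of_right_le_normalizer_left X Y hYX]; exact hg
    obtain ⟨x, hx, y, hy, rfl⟩ := hg'
    refine ⟨⟨y, hy⟩, QuotientGroup.eq.2 ?_⟩
    rw [mem_subgroupOf]
    change y⁻¹ * (x * y) ∈ X
    have := conj_mem hYX (inv_mem hy) hx
    simpa [mul_assoc] using this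
  haveI : Group.IsSolvable (↥(X ⊔ Y) ⧸ X.subgroupOf (X ⊔ Y)) :=
    Group.isSolvable_of_surjective hsurj
  exact Group.isSolvable_of_ker_le_range (Subgroup.inclusion (le_sup_left : X ≤ X ⊔ Y))
    (QuotientGroup.mk' (X.subgroupOf (X ⊔ Y))) (by
      rintro ⟨g, hg⟩ h
      rw [QuotientGroup.ker_mk', mem_subgroupOf] at h
      exact ⟨⟨g, h⟩, rfl⟩)

theorem not_dvd_card_sup [Fact p.Prime] {X Y : Subgroup G} [Finite G] (hX : ¬ p ∣ Nat.card X)
    (hY : ¬ p ∣ Nat.card Y) (hYX : Y ≤ normalizer (X : Set G)) :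
    ¬ p ∣ Nat.card ↥(X ⊔ Y) := by
  intro h
  obtain ⟨⟨g, hg⟩, hord⟩ := exists_prime_orderOf_dvd_card' p h
  have hgp : g ^ p = 1 := by
    have := pow_orderOf_eq_one (⟨g, hg⟩ : ↥(X ⊔ Y))
    rw [hord] at this
    simpa using congrArg Subtype.val this
  have hg1 : g ≠ 1 := by
    rintro rfl
    rw [show (⟨(1 : G), hg⟩ : ↥(X ⊔ Y)) = 1 from rfl, orderOf_one] at hord
    exact (Fact.out : p.Prime).one_lt.ne hord
  have hg' : g ∈ (X : Set G) * (Y : Set G) := by
    rw [← Subgroup.coe_mul_of_right_le_normalizer_left X Y hYX]; exact hg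
  obtain ⟨x, hx, y, hy, rfl⟩ := hg'
  -- modulo `X` the element `y` has order dividing `p`, hence is trivial
  haveI hn : (X.subgroupOf (X ⊔ Y)).Normal :=
    Subgroup.normal_subgroupOf_of_le_normalizer (sup_le le_normalizer hYX)
  let y' : ↥(X ⊔ Y) := ⟨y, le_sup_right (a := X) hy⟩
  have hq : (QuotientGroup.mk' (X.subgroupOf (X ⊔ Y)) y') ^ p = 1 := by
    have e : QuotientGroup.mk' (X.subgroupOf (X ⊔ Y)) y' =
        QuotientGroup.mk' (X.subgroupOf (X ⊔ Y)) ⟨x * y, hg⟩ := by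
      refine QuotientGroup.eq.2 ?_
      rw [mem_subgroupOf]
      change y⁻¹ * (x * y) ∈ X
      have := conj_mem hYX (inv_mem hy) hx
      simpa [mul_assoc] using this
    rw [e, ← map_pow, show (⟨x * y, hg⟩ : ↥(X ⊔ Y)) ^ p = 1 from Subtype.ext (by simpa using hgp),
      map_one]
  rw [← map_pow] at hq
  have hyp : y ^ p ∈ X := by
    have := (QuotientGroup.eq_one_iff _).1 hq
    simpa [mem_subgroupOf] using this
  have hcop : p.Coprime (orderOf y) := by
    refine ((Fact.out : p.Prime).coprime_iff_not_dvd).2 fun hd => hY (hd.trans ?_)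
    rw [← Subgroup.orderOf_mk y hy]
    exact orderOf_dvd_natCard _
  obtain ⟨m, hm⟩ := exists_pow_eq_self_of_coprime hcop
  have hxy : x * y ∈ X := X.mul_mem hx (hm ▸ pow_mem hyp m)
  apply hX
  rw [← orderOf_eq_prime hgp hg1, ← Subgroup.orderOf_mk (x * y) hxy]
  exact orderOf_dvd_natCard _

theorem sup_mem_family [Finite G] [Fact p.Prime] (hA : Cfsg.IsElementaryAbelian p A)
    {X Y : Subgroup G} (hX : X ∈ Cfsg.signalizerFamily p A θ)
    (hY : Y ∈ Cfsg.signalizerFamily p A θ) (hYX : Y ≤ normalizer (X : Set G)) :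
    X ⊔ Y ∈ Cfsg.signalizerFamily p A θ := by
  have hAX := invariant_of_mem_family hX
  have hAY := invariant_of_mem_family hY
  refine ⟨isSolvable_sup hX.1 hY.1 hYX, not_dvd_card_sup hX.2.1 hY.2.1 hYX,
    fun b hb u hu => conj_mem (le_normalizer_sup hAX hAY) hb hu, fun a ha ha1 => ?_⟩
  exact (inf_centralizer_singleton_sup (hA.2 a ha) (hAX ha) (hAY ha) hYX
    (not_dvd_card_of_le inf_le_left hX.2.1)).trans
    (sup_le (hX.2.2.2 a ha ha1) (hY.2.2.2 a ha ha1))

/-! ## The intersection of the functor -/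

theorem signalizerInf_le {a : G} (ha : a ∈ B) (ha1 : a ≠ 1) : Cfsg.signalizerInf B θ ≤ θ a :=
  iInf_le_of_le (⟨a, ha, ha1⟩ : {a : G // a ∈ B ∧ a ≠ 1}) le_rfl

theorem mem_signalizerInf {x : G} :
    x ∈ Cfsg.signalizerInf B θ ↔ ∀ a ∈ B, a ≠ 1 → x ∈ θ a := by
  simp only [Cfsg.signalizerInf, Subgroup.mem_iInf, Subtype.forall, and_imp]

theorem signalizerInf_le_centralizer (hθ : Cfsg.IsSignalizerFunctor p A θ) (hBA : B ≤ A) :
    Cfsg.signalizerInf B θ ≤ centralizer (B : Set G) := by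
  intro x hx
  refine mem_centralizer_iff_conj.2 fun a ha => ?_
  by_cases ha1 : a = 1
  · simp [ha1]
  · exact mem_centralizer_singleton_conj.1 (hθ.1 a (hBA ha) ha1 (mem_signalizerInf.1 hx a ha ha1))

theorem theta_inf_centralizer_le_inf (hθ : Cfsg.IsSignalizerFunctor p A θ) {a : G} (ha : a ∈ A)
    (ha1 : a ≠ 1) (hBA : B ≤ A) :
    θ a ⊓ centralizer (B : Set G) ≤ Cfsg.signalizerInf B θ :=
  fun _ hx => mem_signalizerInf.2 fun b hb hb1 =>
    hθ.2.2.2 a ha ha1 b (hBA hb) hb1 ⟨hx.1, centralizer_le_singleton hb hx.2⟩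

theorem inf_family_le_inf {U : Subgroup G} (hU : U ∈ Cfsg.signalizerFamily p A θ) (hBA : B ≤ A) :
    U ⊓ centralizer (B : Set G) ≤ Cfsg.signalizerInf B θ :=
  fun _ hx => mem_signalizerInf.2 fun b hb hb1 =>
    hU.2.2.2 b (hBA hb) hb1 ⟨hx.1, centralizer_le_singleton hb hx.2⟩

theorem invariant_signalizerInf (hθ : Cfsg.IsSignalizerFunctor p A θ) (hBA : B ≤ A) :
    A ≤ normalizer (Cfsg.signalizerInf B θ : Set G) :=
  le_normalizer_of_conj_mem fun b hb _ hx => mem_signalizerInf.2 fun a ha ha1 =>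
    hθ.2.2.1 a (hBA ha) ha1 b hb _ (mem_signalizerInf.1 hx a ha ha1)

theorem signalizerInf_mem_family (hθ : Cfsg.IsSolvableSignalizerFunctor p A θ) (hBA : B ≤ A)
    (hB : B ≠ ⊥) : Cfsg.signalizerInf B θ ∈ Cfsg.signalizerFamily p A θ := by
  obtain ⟨b, hb, hb1⟩ : ∃ b ∈ B, b ≠ 1 := by
    by_contra hcon
    push Not at hcon
    exact hB ((Subgroup.eq_bot_iff_forall B).2 hcon)
  exact mem_family_of_le (theta_mem_family hθ (hBA hb) hb1) (signalizerInf_le hb hb1)
    (invariant_signalizerInf hθ.1 hBA)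

/-- Members of the family may be conjugated by `θ(C(A))`. -/
theorem map_conj_mem_family (hθ : Cfsg.IsSignalizerFunctor p A θ) {c : G}
    (hc : c ∈ Cfsg.signalizerInf A θ) {U : Subgroup G} (hU : U ∈ Cfsg.signalizerFamily p A θ) :
    U.map (MulAut.conj c).toMonoidHom ∈ Cfsg.signalizerFamily p A θ := by
  obtain ⟨hs, hp, hinv, hcent⟩ := hU
  have hcA := mem_centralizer_iff_conj.1 (signalizerInf_le_centralizer hθ le_rfl hc)
  haveI := hs
  refine ⟨Group.isSolvable_of_surjective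
      (U.equivMapOfInjective _ (MulAut.conj c).injective).surjective
      (f := (U.equivMapOfInjective (MulAut.conj c).toMonoidHom
        (MulAut.conj c).injective).toMonoidHom),
    by rwa [Subgroup.card_map_of_injective (MulAut.conj c).injective], ?_, ?_⟩
  · intro b hb u hu
    rw [mem_map_conj] at hu ⊢
    have h := hinv b hb _ hu
    have e : c⁻¹ * (b * u * b⁻¹) * c = b * (c⁻¹ * u * c) * b⁻¹ := by
      calc c⁻¹ * (b * u * b⁻¹) * c = (b * c * b⁻¹)⁻¹ * (b * u * b⁻¹) * (b * c * b⁻¹) := by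
            rw [hcA b hb]
        _ = _ := by group
    rwa [e]
  · rintro a ha ha1 u ⟨hu, hua⟩
    have hcθ : c ∈ θ a := mem_signalizerInf.1 hc a ha ha1
    have hcC : c ∈ centralizer ({a} : Set G) :=
      centralizer_le_singleton ha (signalizerInf_le_centralizer hθ le_rfl hc)
    have h1 : c⁻¹ * u * c ∈ θ a := hcent a ha ha1
      ⟨mem_map_conj.1 hu, Subgroup.mul_mem _ (Subgroup.mul_mem _ (Subgroup.inv_mem _ hcC) hua) hcC⟩
    have := (θ a).mul_mem ((θ a).mul_mem hcθ h1) ((θ a).inv_mem hcθ)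
    simpa [mul_assoc] using this

/-! ## Quotients -/

/-- Fixed points of a `p`-element in the image of an invariant `p'`-subgroup modulo `N`. -/
theorem map_inf_centralizer_le_map [Finite G] [Fact p.Prime] {X : Subgroup G} (N : Subgroup G)
    [N.Normal] {b : G} (hb : b ^ p = 1) (hX : ¬ p ∣ Nat.card X)
    (hbX : b ∈ normalizer (X : Set G)) :
    X.map (QuotientGroup.mk' N) ⊓ centralizer {QuotientGroup.mk' N b} ≤
      (X ⊓ centralizer ({b} : Set G)).map (QuotientGroup.mk' N) := by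
  rintro _ ⟨⟨x, hx, rfl⟩, hcx⟩
  have hfix := mem_centralizer_singleton_conj.1 hcx
  let M : Subgroup G := normalizer (X : Set G) ⊓
    (centralizer {QuotientGroup.mk' N x}).comap (QuotientGroup.mk' N)
  have hbM : b ∈ M := ⟨hbX, mem_centralizer_singleton_conj.2 (by
    rw [mul_inv_eq_iff_eq_mul] at hfix ⊢; exact hfix.symm)⟩
  obtain ⟨n, hn, hnx⟩ := exists_fixed_in_coset (A := zpowers b) (N := X ⊓ N)
    (isPGroup_zpowers_of_pow_eq_one hb)
    (le_normalizer_inf (zpowers_le.2 hbX) (by simp [Subgroup.normalizer_eq_top]))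
    (not_dvd_card_of_le inf_le_left hX) x (by
      intro a ha
      obtain ⟨haX, haC⟩ := zpowers_le.2 hbM ha
      refine ⟨X.mul_mem (conj_mem le_rfl haX hx) (X.inv_mem hx), ?_⟩
      change a ∈ (centralizer {QuotientGroup.mk' N x}).comap (QuotientGroup.mk' N) at haC
      rw [mem_comap, Subgroup.mem_centralizer_singleton_iff] at haC
      refine (QuotientGroup.eq_one_iff (a * x * a⁻¹ * x⁻¹)).1 ?_
      change QuotientGroup.mk' N (a * x * a⁻¹ * x⁻¹) = 1
      simp only [map_mul, map_inv]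
      rw [haC]
      group)
  refine ⟨n * x, ⟨X.mul_mem hn.1 hx, centralizer_le_singleton (mem_zpowers b) hnx⟩, ?_⟩
  rw [map_mul, (QuotientGroup.eq_one_iff n).2 hn.2 |> fun h => (show QuotientGroup.mk' N n = 1 from h),
    one_mul]

end Cfsg.Agent.Signalizer
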