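import Cfsg.Agent.Lib.Signalizer.Ambient
import Cfsg.Agent.Lib.Signalizer.ElemAb
import Cfsg.Agent.Lib.Signalizer.Core

/-!
# Families indexed by subgroups of rank `k`

* `IsKFamily.inf_centralizer_le`: completeness inside a solvable invariant `p'`-group
* `isSignalizerFunctor_iSup_delta`: the `k`-balanced functor
-/

set_option autoImplicit false

namespace Cfsg.Agent.Signalizer

open Subgroup

universe u

variable {G : Type u} [Group G] {p : ℕ}

/-- A compatible family of subgroups of `M` indexed by the subgroups of order `p ^ k` of `A`. -/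
structure IsKFamily (p k : ℕ) (A M : Subgroup G) (W : Subgroup G → Subgroup G) : Prop where
  le : ∀ D, D ≤ A → Nat.card D = p ^ k → W D ≤ M ⊓ centralizer (D : Set G)
  inv : ∀ D, D ≤ A → Nat.card D = p ^ k → A ≤ normalizer (W D : Set G)
  compat : ∀ D, D ≤ A → Nat.card D = p ^ k → ∀ D', D' ≤ A → Nat.card D' = p ^ k →
    W D ⊓ centralizer (D' : Set G) ≤ W D'

/-- The group generated by a family. -/
def kClosure (p k : ℕ) (A : Subgroup G) (W : Subgroup G → Subgroup G) : Subgroup G :=
  ⨆ D : {D : Subgroup G // D ≤ A ∧ Nat.card D = p ^ k}, W D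

theorem inf_centralizer_le_centralizer_sup_zpowers (E : Subgroup G) (b : G) :
    centralizer (E : Set G) ⊓ centralizer ({b} : Set G) ≤
      centralizer ((E ⊔ zpowers b : Subgroup G) : Set G) := by
  refine le_centralizer_iff.2 (sup_le (le_centralizer_iff.1 inf_le_left) ?_)
  refine zpowers_le.2 (mem_centralizer_iff.2 fun x hx => ?_)
  exact (mem_centralizer_singleton_iff.1 hx.2)

theorem IsKFamily.inf_centralizer_le [Finite G] [hp : Fact p.Prime] {k : ℕ} (hk : 1 ≤ k)
    {A M : Subgroup G} {W : Subgroup G → Subgroup G} (hA : Cfsg.IsElementaryAbelian p A)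
    (hAk : p ^ (k + 2) ≤ Nat.card A) (hMs : Group.IsSolvable M) (hMp : ¬ p ∣ Nat.card M)
    (hAM : A ≤ normalizer (M : Set G)) (hW : IsKFamily p k A M W) {D : Subgroup G} (hD : D ≤ A)
    (hDk : Nat.card D = p ^ k) : kClosure p k A W ⊓ centralizer (D : Set G) ≤ W D := by
  induction k, hk using Nat.le_induction generalizing A W D with
  | base =>
    have hz : ∀ a ∈ A, a ≠ 1 → zpowers a ≤ A ∧ Nat.card (zpowers a) = p ^ 1 := fun a ha ha1 =>
      ⟨zpowers_le.2 ha, by rw [Nat.card_zpowers, orderOf_eq_prime (hA.2 a ha) ha1, pow_one]⟩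
    have hgen : ∀ E : Subgroup G, E ≤ A → Nat.card E = p ^ 1 →
        ∃ e ∈ A, e ≠ 1 ∧ zpowers e = E := by
      intro E hE hEk
      obtain ⟨⟨e, he⟩, he1⟩ := ne_bot_iff_exists_ne_one.1
        (ne_bot_of_pow_le (p := p) one_ne_zero hEk.ge)
      have he1' : e ≠ 1 := fun h => he1 (Subtype.ext h)
      exact ⟨e, hE he, he1', eq_of_le_of_card_ge (zpowers_le.2 he)
        (by rw [(hz e (hE he) he1').2, hEk])⟩
    have hfun : Cfsg.IsSignalizerFunctor p A (fun a => W (zpowers a)) :=
      ⟨fun a ha ha1 => ((hW.le _ (hz a ha ha1).1 (hz a ha ha1).2).trans inf_le_right).trans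
          (centralizer_le_singleton (mem_zpowers a)),
        fun a ha ha1 => not_dvd_card_of_le
          ((hW.le _ (hz a ha ha1).1 (hz a ha ha1).2).trans inf_le_left) hMp,
        fun a ha ha1 b hb x hx => conj_mem (hW.inv _ (hz a ha ha1).1 (hz a ha ha1).2) hb hx,
        fun a ha ha1 b hb hb1 x hx => hW.compat _ (hz a ha ha1).1 (hz a ha ha1).2 _ (hz b hb hb1).1
          (hz b hb hb1).2 ⟨hx.1, by rw [zpowers_eq_closure, centralizer_closure]; exact hx.2⟩⟩
    obtain ⟨d, hd, hd1, rfl⟩ := hgen D hD hDk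
    refine le_trans (le_trans ?_ (inf_le_inf_left _ (centralizer_le_singleton (mem_zpowers d))))
      (inf_centralizer_le_of_ambient hA hAk hMs hMp hAM hfun
        (fun a ha ha1 => (hW.le _ (hz a ha ha1).1 (hz a ha ha1).2).trans inf_le_left) hd hd1)
    refine inf_le_inf_right _ (iSup_le fun E => ?_)
    obtain ⟨e, he, he1, hee⟩ := hgen E E.2.1 E.2.2
    exact le_iSup_of_le ⟨e, he, he1⟩ (hee ▸ le_rfl)
  | succ k hk ih =>
    have hp2 := hp.out.two_le
    let θ : G → Subgroup G := fun b =>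
      ⨆ E : {E : Subgroup G // E ≤ A ∧ Nat.card E = p ^ (k + 1) ∧ b ∈ E}, W E
    have hθM : ∀ b, θ b ≤ M := fun b => iSup_le fun E => (hW.le E E.2.1 E.2.2.1).trans inf_le_left
    have hθC : ∀ b, θ b ≤ centralizer ({b} : Set G) := fun b => iSup_le fun E =>
      ((hW.le E E.2.1 E.2.2.1).trans inf_le_right).trans (centralizer_le_singleton E.2.2.2)
    have hθA : ∀ b, A ≤ normalizer (θ b : Set G) := fun b =>
      le_normalizer_iSup fun E => hW.inv E E.2.1 E.2.2.1
    -- the members through `b` of the family form a family of rank `k`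
    have hpart : ∀ b ∈ A, b ≠ 1 → ∀ E : Subgroup G, E ≤ A → Nat.card E = p ^ (k + 1) → b ∈ E →
        θ b ⊓ centralizer (E : Set G) ≤ W E := by
      intro b hb hb1 E hE hEk hbE
      obtain ⟨A₀, hA₀, hbA₀, hsup⟩ := exists_complement_zpowers hA hb hb1
      have hcard : ∀ F : Subgroup G, F ≤ A₀ → Nat.card ↥(F ⊔ zpowers b) = Nat.card F * p :=
        fun F hF => card_sup_zpowers hA (hF.trans hA₀) hb fun h => hbA₀ (hF h)
      have hsA : ∀ F : Subgroup G, F ≤ A₀ → F ⊔ zpowers b ≤ A := fun F hF =>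
        sup_le (hF.trans hA₀) (zpowers_le.2 hb)
      have hsk : ∀ F : Subgroup G, F ≤ A₀ → Nat.card F = p ^ k →
          Nat.card ↥(F ⊔ zpowers b) = p ^ (k + 1) := fun F hF hFk => by
        rw [hcard F hF, hFk, pow_succ]
      have hA₀k : p ^ (k + 2) ≤ Nat.card A₀ := by
        have h := hcard A₀ le_rfl
        rw [hsup] at h
        rw [h, show k + 1 + 2 = (k + 2) + 1 by omega, pow_succ] at hAk
        exact Nat.le_of_mul_le_mul_right hAk hp.out.pos
      have hfam : IsKFamily p k A₀ M (fun F => W (F ⊔ zpowers b)) :=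
        ⟨fun F hF hFk => (hW.le _ (hsA F hF) (hsk F hF hFk)).trans
            (inf_le_inf_left _ (centralizer_le (SetLike.coe_subset_coe.2 le_sup_left))),
          fun F hF hFk => hA₀.trans (hW.inv _ (hsA F hF) (hsk F hF hFk)),
          fun F hF hFk F' hF' hFk' x hx => hW.compat _ (hsA F hF) (hsk F hF hFk) _ (hsA F' hF')
            (hsk F' hF' hFk') ⟨hx.1, inf_centralizer_le_centralizer_sup_zpowers F' b ⟨hx.2,
              centralizer_le_singleton (le_sup_right (a := F) (mem_zpowers b))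
                (hW.le _ (hsA F hF) (hsk F hF hFk) hx.1).2⟩⟩⟩
      have hsplit : ∀ F : Subgroup G, F ≤ A → b ∈ F → (F ⊓ A₀) ⊔ zpowers b = F := by
        intro F hF hbF
        refine le_antisymm (sup_le inf_le_left (zpowers_le.2 hbF)) fun x hx => ?_
        have hx' : x ∈ A₀ ⊔ zpowers b := hsup.symm ▸ hF hx
        rw [← SetLike.mem_coe, coe_mul_of_right_le_normalizer_left _ _ (le_normalizer_of_commute
          fun u hu v hv => commute_of_isMulCommutative hA.1 (zpowers_le.2 hb hu) (hA₀ hv))] at hx'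
        obtain ⟨y, hy, z, hz, rfl⟩ := hx'
        refine mul_mem (mem_sup_left ⟨?_, hy⟩) (mem_sup_right hz)
        simpa using F.mul_mem hx (F.inv_mem (zpowers_le.2 hbF hz))
      have hsplitk : ∀ F : Subgroup G, F ≤ A → Nat.card F = p ^ (k + 1) → b ∈ F →
          Nat.card ↥(F ⊓ A₀) = p ^ k := by
        intro F hF hFk hbF
        have h := hcard (F ⊓ A₀) inf_le_right
        rw [hsplit F hF hbF, hFk, pow_succ] at h
        exact (Nat.eq_of_mul_eq_mul_right hp.out.pos h).symm
      have h := ih (elemAb_of_le hA hA₀) hA₀k (hA₀.trans hAM) hfam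
        (D := E ⊓ A₀) inf_le_right (hsplitk E hE hEk hbE)
      rw [hsplit E hE hbE] at h
      refine le_trans ?_ h
      exact inf_le_inf (iSup_le fun F => le_iSup_of_le
        ⟨F.1 ⊓ A₀, inf_le_right, hsplitk F F.2.1 F.2.2.1 F.2.2.2⟩
        (le_of_eq (congrArg W (hsplit F F.2.1 F.2.2.2).symm))) (centralizer_le inf_le_left)
    have hA1 : A ≠ ⊥ := ne_bot_of_pow_le (by omega) hAk
    have hfun : Cfsg.IsSignalizerFunctor p A θ := by
      refine ⟨fun b _ _ => hθC b, fun b _ _ => not_dvd_card_of_le (hθM b) hMp,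
        fun b _ _ c hc x hx => conj_mem (hθA b) hc hx, fun b hb hb1 c hc hc1 => ?_⟩
      refine le_of_hyperplanes hA hA1 _ _ (not_dvd_card_of_le (inf_le_left.trans (hθM b)) hMp)
        (le_normalizer_inf (hθA b) (le_normalizer_of_conj_mem fun a ha x hx => ?_)) fun H hH hi => ?_
      · refine mem_centralizer_singleton_iff.2 ?_
        have h1 := mem_centralizer_singleton_iff.1 hx
        have h2 := commute_of_isMulCommutative hA.1 ha hc
        calc a * x * a⁻¹ * c = a * x * (c * a⁻¹) := by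
              rw [mul_assoc _ a⁻¹ c, (Commute.inv_left h2).eq]
          _ = a * (c * x) * a⁻¹ := by rw [← h1]; group
          _ = c * (a * x * a⁻¹) := by rw [← mul_assoc a c x, h2]; group
      set B := zpowers b ⊔ zpowers c with hB
      have hBA : B ≤ A := sup_le (zpowers_le.2 hb) (zpowers_le.2 hc)
      have hBk : Nat.card B ≤ p ^ (k + 1) := by
        have hzb : Nat.card (zpowers b) = p := by
          rw [Nat.card_zpowers, orderOf_eq_prime (hA.2 b hb) hb1]
        by_cases hcb : c ∈ zpowers b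
        · rw [hB, sup_eq_left.2 (zpowers_le.2 hcb), hzb]
          exact Nat.le_self_pow (by omega) p
        · rw [hB, card_sup_zpowers hA (zpowers_le.2 hb) hc hcb, hzb, ← sq]
          exact Nat.pow_le_pow_right hp.out.pos (by omega)
      have hXk : p ^ (k + 1) ≤ Nat.card ↥(H ⊔ B) := by
        have h := card_hyperplane_mul hH hi
        rw [← h, show k + 1 + 2 = (k + 1) + 1 + 1 by omega, pow_succ] at hAk
        exact ((Nat.pow_le_pow_right hp.out.pos (by omega)).trans
          (Nat.le_of_mul_le_mul_right hAk hp.out.pos)).trans (card_le_of_le le_sup_left)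
      obtain ⟨E, hBE, hEX, hEk⟩ := exists_between hA (le_sup_right (a := H)) (sup_le hH hBA) hBk hXk
      have hbE : b ∈ E := hBE (mem_sup_left (mem_zpowers b))
      have hcE : c ∈ E := hBE (mem_sup_right (mem_zpowers c))
      intro x hx
      have hxE : x ∈ centralizer (E : Set G) := by
        refine centralizer_le hEX (le_centralizer_iff.1 (sup_le
          (le_centralizer_iff.2 (zpowers_le.2 hx.2)) (sup_le ?_ ?_)) (mem_zpowers x))
        · exact le_centralizer_iff.2 (zpowers_le.2 (by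
            rw [zpowers_eq_closure, centralizer_closure]; exact hθC b hx.1.1))
        · exact le_centralizer_iff.2 (zpowers_le.2 (by
            rw [zpowers_eq_closure, centralizer_closure]; exact hx.1.2))
      exact le_iSup (fun E : {E : Subgroup G // E ≤ A ∧ Nat.card E = p ^ (k + 1) ∧ c ∈ E} => W E)
        ⟨E, hEX.trans (sup_le hH hBA), hEk, hcE⟩
        (hpart b hb hb1 E (hEX.trans (sup_le hH hBA)) hEk hbE ⟨hx.1.1, hxE⟩)
    obtain ⟨⟨d, hd⟩, hd1⟩ := ne_bot_iff_exists_ne_one.1
      (ne_bot_of_pow_le (p := p) (n := k + 1) (by omega) hDk.ge)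
    have hd1' : d ≠ 1 := fun h => hd1 (Subtype.ext h)
    refine le_trans (le_inf ?_ inf_le_right) (hpart d (hD hd) hd1' D hD hDk hd)
    refine le_trans (inf_le_inf ?_ (centralizer_le_singleton hd))
      (inf_centralizer_le_of_ambient hA ((Nat.pow_le_pow_right hp.out.pos (by omega)).trans hAk)
        hMs hMp hAM hfun (fun b _ _ => hθM b) (hD hd) hd1')
    refine iSup_le fun E => ?_
    obtain ⟨⟨e, he⟩, he1⟩ := ne_bot_iff_exists_ne_one.1
      (ne_bot_of_pow_le (p := p) (n := k + 1) (by omega) E.2.2.ge)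
    exact le_iSup_of_le ⟨e, E.2.1 he, fun h => he1 (Subtype.ext h)⟩
      (le_iSup_of_le ⟨E.1, E.2.1, E.2.2, he⟩ le_rfl)

/-- The `k`-balanced functor of a `k`-balanced group. -/
theorem isSignalizerFunctor_iSup_delta [Finite G] [hp : Fact p.Prime] {k : ℕ} (hk : 1 ≤ k)
    (hbal : Cfsg.IsKBalanced p k G) {A : Subgroup G} (hA : Cfsg.IsElementaryAbelian p A)
    (hAk : p ^ (k + 2) ≤ Nat.card A)
    (hsolv : ∀ a ∈ A, a ≠ 1 → Group.IsSolvable ↥(Cfsg.centralizerPPrimeCore p a)) :
    Cfsg.IsSignalizerFunctor p A (fun a => ⨆ D : {D : Subgroup G // D ≤ A ∧ Nat.card ↥D = p ^ k},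
      Cfsg.signalizerDelta p (D : Subgroup G) ⊓ centralizer {a}) := by
  have hA1 : A ≠ ⊥ := ne_bot_of_pow_le (by omega) hAk
  have hΔA : ∀ D : Subgroup G, D ≤ A → A ≤ normalizer (Cfsg.signalizerDelta p D : Set G) :=
    fun D hD => le_normalizer_of_conj_mem fun a ha x hx => mem_iInf.2 fun d =>
      conj_mem (invariant_core hA.1 (hD d.2.1)) ha (mem_iInf.1 hx d)
  have hCA : ∀ a ∈ A, A ≤ normalizer (centralizer ({a} : Set G) : Set G) := by
    intro a ha
    rw [← centralizer_closure, ← zpowers_eq_closure]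
    exact le_normalizer_centralizer (le_normalizer_of_commute fun u hu v hv =>
      commute_of_isMulCommutative hA.1 hu (zpowers_le.2 ha hv))
  have hcom : ∀ (D : Subgroup G), D ≤ A → ∀ a ∈ A, ∀ d ∈ D, d * a = a * d :=
    fun D hD a ha d hd => commute_of_isMulCommutative hA.1 (hD hd) ha
  have hb : ∀ D : Subgroup G, D ≤ A → Nat.card D = p ^ k → ∀ a ∈ A, a ≠ 1 →
      Cfsg.signalizerDelta p D ⊓ centralizer {a} ≤ Cfsg.centralizerPPrimeCore p a :=
    fun D hD hDk a ha ha1 => hbal D (elemAb_of_le hA hD) hDk a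
      (orderOf_eq_prime (hA.2 a ha) ha1) (hcom D hD a ha)
  have hθcore : ∀ a ∈ A, a ≠ 1 → (⨆ D : {D : Subgroup G // D ≤ A ∧ Nat.card ↥D = p ^ k},
      Cfsg.signalizerDelta p (D : Subgroup G) ⊓ centralizer {a}) ≤
        Cfsg.centralizerPPrimeCore p a :=
    fun a ha ha1 => iSup_le fun D => hb D D.2.1 D.2.2 a ha ha1
  refine ⟨fun a _ _ => iSup_le fun D => inf_le_right,
    fun a ha ha1 => not_dvd_card_of_le (hθcore a ha ha1) (not_dvd_card_core a),
    fun a ha _ c hc x hx => conj_mem (le_normalizer_iSup fun D : {D : Subgroup G // D ≤ A ∧ Nat.card ↥D = p ^ k} =>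
      le_normalizer_inf (hΔA D D.2.1) (hCA a ha)) hc hx, fun a ha ha1 b hb' hb1 => ?_⟩
  have hfam : IsKFamily p k A (Cfsg.centralizerPPrimeCore p a)
      (fun D => Cfsg.signalizerDelta p D ⊓ centralizer {a}) := by
    refine ⟨fun D hD hDk => le_inf (hb D hD hDk a ha ha1) fun x hx => mem_centralizer_iff.2
        fun d hd => ?_, fun D hD _ => le_normalizer_inf (hΔA D hD) (hCA a ha),
      fun D hD hDk D' hD' hDk' x hx => ⟨mem_iInf.2 fun d => ?_, hx.1.2⟩⟩
    · by_cases hd1 : d = 1
      · rw [hd1, one_mul, mul_one]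
      · exact (mem_centralizer_singleton_iff.1 (core_le_centralizer (p := p) d
          (mem_iInf.1 hx.1 ⟨d, hd, hd1⟩))).symm
    · exact hb D hD hDk d (hD' d.2.1) d.2.2
        ⟨hx.1.1, centralizer_le_singleton d.2.1 hx.2⟩
  refine le_of_hyperplanes hA hA1 _ _
    (not_dvd_card_of_le (inf_le_left.trans (hθcore a ha ha1)) (not_dvd_card_core a))
    (le_normalizer_inf (le_normalizer_iSup fun D =>
      le_normalizer_inf (hΔA D D.2.1) (hCA a ha)) (hCA b hb')) fun H hH hi => ?_
  have hHk : p ^ k ≤ Nat.card H := by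
    have h := card_hyperplane_mul hH hi
    rw [← h, show k + 2 = (k + 1) + 1 by omega, pow_succ] at hAk
    exact (Nat.pow_le_pow_right hp.out.pos (by omega)).trans
      (Nat.le_of_mul_le_mul_right hAk hp.out.pos)
  obtain ⟨D, -, hDH, hDk⟩ := exists_between hA (bot_le : ⊥ ≤ H) hH
    (by rw [card_bot]; exact Nat.one_le_pow _ _ hp.out.pos) hHk
  intro x hx
  refine le_iSup (fun D : {D : Subgroup G // D ≤ A ∧ Nat.card ↥D = p ^ k} =>
    Cfsg.signalizerDelta p (D : Subgroup G) ⊓ centralizer {b}) ⟨D, hDH.trans hH, hDk⟩ ⟨?_, hx.1.2⟩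
  exact (hfam.inf_centralizer_le hk hA hAk (hsolv a ha ha1) (not_dvd_card_core a)
    (invariant_core hA.1 ha) (hDH.trans hH) hDk ⟨hx.1.1, centralizer_le hDH hx.2⟩).1

end Cfsg.Agent.Signalizer
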