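import Cfsg.Agent.Lib.Constrained.Basic
import Cfsg.Agent.Lib.LocalCharP.Basic
import Cfsg.Agent.Lib.Components.GenFitting

/-!
# Characteristic `p` passes from centralisers of elements to `p`-local subgroups

* `isCharP_of_genFitting_eq`, `isCharP_normalizer_of_central`
-/

set_option autoImplicit false

namespace Cfsg.Agent.Signalizer

open Subgroup

variable {G : Type*} [Group G] [Finite G] {p : ℕ} [Fact p.Prime]

omit [Fact p.Prime] in
theorem isCharP_of_genFitting_eq (h : Cfsg.generalizedFittingSubgroup G = Cfsg.pCore p G) :
    Constrained.IsCharP p G := by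
  have h1 := Components.centralizer_genFitting_le (G := G)
  rwa [h] at h1

theorem isCharP_normalizer_of_central {T : Subgroup G} (hT : IsPGroup p T) {t : G} (ht : t ∈ T)
    (htT : T ≤ centralizer ({t} : Set G))
    (h : Constrained.IsCharP p ↥(centralizer ({t} : Set G))) :
    Constrained.IsCharP p ↥(normalizer (T : Set G)) := by
  set C := centralizer ({t} : Set G) with hC
  have hle : centralizer (T : Set G) ≤ C := centralizer_le (Set.singleton_subset_iff.2 ht)
  set T' := T.subgroupOf C with hT'
  have heq : (centralizer (T : Set G)).subgroupOf C = centralizer (T' : Set C) := by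
    ext x
    simp only [mem_subgroupOf, mem_centralizer_iff]
    exact ⟨fun hx y hy => Subtype.ext (hx _ hy), fun hx y hy =>
      congrArg Subtype.val (hx ⟨y, htT hy⟩ hy)⟩
  have h1 : Constrained.IsCharP p ↥(centralizer (T : Set G)) :=
    Constrained.isCharP_congr
      ((MulEquiv.subgroupCongr heq).symm.trans (subgroupOfEquivOfLe hle))
      (h.of_le (T := T') hT.comap_subtype (centralizer_le_normalizer _) (Or.inr le_rfl) inf_le_right)
  set N := normalizer (T : Set G) with hN
  refine Constrained.isCharP_iff.2 ⟨Constrained.isPConstrained_of_centralizer hT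
    (Constrained.isCharP_iff.1 h1).1, ?_⟩
  set O := (Cfsg.pPrimeCore p ↥N).map N.subtype with hO
  have hOC : O ≤ centralizer (T : Set G) := by
    rintro _ ⟨o, ho, rfl⟩
    refine mem_centralizer_iff.2 fun u hu => ?_
    have huc : (⟨u, le_normalizer hu⟩ : N) ∈ Cfsg.pCore p ↥N :=
      Cores.le_pCore (Cores.subgroupOf_normal_of_le_normalizer le_rfl) hT.comap_subtype
        (show (⟨u, le_normalizer hu⟩ : N) ∈ T.subgroupOf N from hu)
    exact congrArg Subtype.val (Cores.pCore_pPrimeCore_commute huc ho).eq
  haveI : (O.subgroupOf (centralizer (T : Set G))).Normal :=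
    normal_subgroupOf_of_le_normalizer ((centralizer_le_normalizer _).trans
      (by rw [← normal_subgroupOf_iff_le_normalizer (map_subtype_le _)]
          exact (congrArg Subgroup.Normal (comap_map_eq_self_of_injective N.subtype_injective
            (Cfsg.pPrimeCore p ↥N))).mpr (Cores.pPrimeCore_normal p ↥N)))
  have h2 : O.subgroupOf (centralizer (T : Set G)) ≤ Cfsg.pPrimeCore p ↥(centralizer (T : Set G)) :=
    Cores.le_pPrimeCore inferInstance (by
      rw [Cores.card_subgroupOf hOC, hO, Cores.card_map_subtype]
      exact Cores.coprime_card_pPrimeCore p)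
  rw [h1.pPrimeCore_eq_bot, le_bot_iff, subgroupOf_eq_bot] at h2
  exact (Subgroup.map_eq_bot_iff_of_injective _ N.subtype_injective).1
    (disjoint_self.1 (h2.mono_right hOC))

end Cfsg.Agent.Signalizer
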