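import Cfsg.Agent.Lib.Signalizer.GraphTrivial
import Cfsg.Agent.Lib.Signalizer.Core
import Cfsg.Agent.Lib.Components.PComponent
import Cfsg.Agent.Lib.Solvable.CommutatorFixed
import Cfsg.Agent.S1328

/-!
# The signalizer functor of a core-separated pair of four-groups

`isSignalizerFunctor_coreSeparated`, modulo solvability of groups of odd order (a hypothesis).
-/

set_option autoImplicit false

namespace Cfsg.Agent.CoreSep

open Subgroup
open scoped Pointwise commutatorElement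

universe u

variable {G : Type u} [Group G] [Finite G]

/-- Image in `C(b) / O(C(b))`. -/
def bar (b : G) (P : Subgroup G) : Subgroup (↥(centralizer ({b} : Set G)) ⧸
    Cfsg.oddCore ↥(centralizer ({b} : Set G))) :=
  (P.subgroupOf (centralizer ({b} : Set G))).map (QuotientGroup.mk' _)

/-- `O(C(P))` inside `G`. -/
def oddCent (P : Subgroup G) : Subgroup G :=
  (Cfsg.oddCore ↥(centralizer (P : Set G))).map (centralizer (P : Set G)).subtype

theorem odd_of_le {H K : Subgroup G} (h : H ≤ K) (hK : Odd (Nat.card K)) : Odd (Nat.card H) :=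
  hK.of_dvd_nat (card_dvd_of_le h)

theorem odd_core (a : G) : Odd (Nat.card ↥(Cfsg.centralizerPPrimeCore 2 a)) := by
  haveI : Fact (Nat.Prime 2) := ⟨Nat.prime_two⟩
  rw [← Nat.not_even_iff_odd, even_iff_two_dvd]
  exact Signalizer.not_dvd_card_core a

theorem odd_oddCent (P : Subgroup G) : Odd (Nat.card ↥(oddCent P)) := by
  rw [oddCent, Cores.card_map_subtype]
  exact Nat.coprime_two_right.1 (Cores.coprime_card_pPrimeCore 2)

omit [Finite G] in
theorem centralizer_le_normalizer_oddCent (P : Subgroup G) :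
    centralizer (P : Set G) ≤ normalizer (oddCent P : Set G) := by
  refine Signalizer.le_normalizer_of_conj_mem ?_
  rintro c hc _ ⟨y, hy, rfl⟩
  exact ⟨⟨c, hc⟩ * y * ⟨c, hc⟩⁻¹, (Cores.pPrimeCore_normal 2 _).conj_mem y hy _, rfl⟩

theorem le_oddCent {P W : Subgroup G} (hWP : W ≤ centralizer (P : Set G))
    (hW : Odd (Nat.card W)) (hn : centralizer (P : Set G) ≤ normalizer (W : Set G)) :
    W ≤ oddCent P := by
  rw [oddCent, ← map_subgroupOf_eq_of_le hWP]
  refine map_mono (Cores.le_pPrimeCore (Cores.subgroupOf_normal_of_le_normalizer hn) ?_)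
  rw [Cores.card_subgroupOf hWP]
  exact Nat.coprime_two_right.2 hW

theorem bar_mono {b : G} {P R : Subgroup G} (h : P ≤ R) : bar b P ≤ bar b R :=
  map_mono fun _ hx => h hx

theorem bar_commutator {b : G} {P R : Subgroup G} (hP : P ≤ centralizer ({b} : Set G))
    (hR : R ≤ centralizer ({b} : Set G)) : bar b ⁅P, R⁆ = ⁅bar b P, bar b R⁆ := by
  have hle : ⁅P, R⁆ ≤ centralizer ({b} : Set G) :=
    commutator_le.2 fun p hp r hr => by
      rw [commutatorElement_def]
      exact mul_mem (mul_mem (mul_mem (hP hp) (hR hr)) (inv_mem (hP hp))) (inv_mem (hR hr))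
  rw [bar, bar, bar, ← map_commutator]
  refine congrArg _ (map_injective (centralizer ({b} : Set G)).subtype_injective ?_)
  rw [map_commutator, map_subgroupOf_eq_of_le hle, map_subgroupOf_eq_of_le hP,
    map_subgroupOf_eq_of_le hR]

theorem le_core_of_bar_eq_bot {b : G} {P : Subgroup G} (hP : P ≤ centralizer ({b} : Set G))
    (h : bar b P = ⊥) : P ≤ Cfsg.centralizerPPrimeCore 2 b := by
  rw [bar, Subgroup.map_eq_bot_iff, QuotientGroup.ker_mk'] at h
  intro x hx
  exact ⟨⟨x, hP hx⟩, h hx, rfl⟩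

theorem bar_eq_bot {b : G} {P : Subgroup G} (h : P ≤ Cfsg.centralizerPPrimeCore 2 b) :
    bar b P = ⊥ := by
  rw [bar, Subgroup.map_eq_bot_iff, QuotientGroup.ker_mk']
  intro x hx
  obtain ⟨y, hy, hyx⟩ := h (mem_subgroupOf.1 hx)
  exact Subtype.ext hyx ▸ hy

theorem mem_bar {b x : G} {P : Subgroup G} (hx : x ∈ P) (hxH : x ∈ centralizer ({b} : Set G)) :
    QuotientGroup.mk' (Cfsg.oddCore ↥(centralizer ({b} : Set G))) ⟨x, hxH⟩ ∈ bar b P :=
  mem_map_of_mem _ (mem_subgroupOf.2 hx)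

/-- Centralisers of 2-subgroups lift to `C(b)`. -/
theorem centralizer_bar_le_normalizer {b : G} {P N : Subgroup G}
    (hP : P ≤ centralizer ({b} : Set G)) (hP2 : IsPGroup 2 P)
    (hn : centralizer ({b} : Set G) ⊓ centralizer (P : Set G) ≤ normalizer (N : Set G)) :
    centralizer (bar b P : Set (↥(centralizer ({b} : Set G)) ⧸ Cfsg.oddCore ↥(centralizer ({b} : Set G)))) ≤
      normalizer (bar b N : Set (↥(centralizer ({b} : Set G)) ⧸ Cfsg.oddCore ↥(centralizer ({b} : Set G)))) := by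
  haveI : Fact (Nat.Prime 2) := ⟨Nat.prime_two⟩
  intro x hx
  obtain ⟨g, rfl⟩ := QuotientGroup.mk'_surjective _ x
  have hn0 : (Cfsg.oddCore ↥(centralizer ({b} : Set G))).Normal := Cores.pPrimeCore_normal 2 _
  obtain ⟨o, ho, hog⟩ := Constrained.exists_mul_mem_centralizer (x := g)
    (Cores.not_dvd_card_pPrimeCore (p := 2) (G := ↥(centralizer ({b} : Set G))))
    (hP2.comap_subtype (K := centralizer ({b} : Set G))) fun u hu => by
      rw [← QuotientGroup.eq_one_iff]
      have h := mem_centralizer_iff.1 hx (QuotientGroup.mk' _ u) ⟨u, hu, rfl⟩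
      show QuotientGroup.mk' (Cfsg.oddCore _) (g * u * g⁻¹ * u⁻¹) = 1
      rw [map_mul, map_mul, map_mul, map_inv, map_inv, ← h]
      group
  have h2 : QuotientGroup.mk' (Cfsg.oddCore ↥(centralizer ({b} : Set G))) (o * g) =
      QuotientGroup.mk' _ g := by
    rw [map_mul, show QuotientGroup.mk' (Cfsg.oddCore ↥(centralizer ({b} : Set G))) o = 1 from
      (QuotientGroup.eq_one_iff o).2 ho, one_mul]
  rw [← h2]
  refine le_normalizer_map _ (mem_map_of_mem _ ?_)
  refine Signalizer.mem_normalizer_of_conj_mem fun y hy => ?_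
  refine mem_subgroupOf.2 (Signalizer.conj_mem hn ⟨(o * g).2, ?_⟩ (mem_subgroupOf.1 hy))
  refine mem_centralizer_iff.2 fun p hp => ?_
  exact congrArg Subtype.val (mem_centralizer_iff.1 hog ⟨p, hP hp⟩ (mem_subgroupOf.2 hp))

/-- A component not centralised by `t` and `Y` (a consequence of `S1328`). -/
theorem exists_bad_component {Q : Type u} [Group Q] [Finite Q] (hQ : Cfsg.oddCore Q = ⊥) {t : Q}
    (ht : orderOf t = 2) {Y Y₀ : Subgroup Q} (hY : Y ≠ ⊥) (hYY : Y ≤ Y₀)
    (hodd : Odd (Nat.card Y₀)) (hC : Y₀ ≤ centralizer ({t} : Set Q))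
    (hn : centralizer ({t} : Set Q) ≤ normalizer (Y₀ : Set Q)) :
    ∃ F : Subgroup Q, Cfsg.IsComponent F ∧ t ∈ normalizer (F : Set Q) ∧
      Y ≤ normalizer (F : Set Q) ∧ t ∉ centralizer (F : Set Q) ∧
      ¬ Y ≤ centralizer (F : Set Q) := by
  have htop : Cfsg.oddCore ↥(⊤ : Subgroup Q) = ⊥ := by
    apply map_injective (f := (Subgroup.topEquiv : _ ≃* Q).toMonoidHom) Subgroup.topEquiv.injective
    rw [show (Cfsg.oddCore ↥(⊤ : Subgroup Q)).map (Subgroup.topEquiv : _ ≃* Q).toMonoidHom = _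
      from Cores.pPrimeCore_map_mulEquiv Subgroup.topEquiv 2, Subgroup.map_bot]
    exact hQ
  obtain ⟨E, hE, hconj, hYE, htE, hYE'⟩ := S1328.result ⊤ htop t ht
    (by rw [normalizer_eq_top]; trivial) Y hY (by
      have hle : Y₀ ≤ ⊤ ⊓ centralizer ({t} : Set Q) := le_inf le_top hC
      refine hYY.trans ?_
      rw [← map_subgroupOf_eq_of_le hle]
      refine map_mono (Cores.le_pPrimeCore (Cores.subgroupOf_normal_of_le_normalizer
        (inf_le_right.trans hn)) ?_)
      rw [Cores.card_subgroupOf hle]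
      exact Nat.coprime_two_right.2 hodd)
  refine ⟨E.map (⊤ : Subgroup Q).subtype, (Components.isComponent_map_subtype_iff
    (Subgroup.IsSubnormal.top) E).2 hE, ?_, hYE, htE, hYE'⟩
  refine Signalizer.mem_normalizer_of_conj_mem fun x hx => ?_
  exact hconj ▸ (⟨x, hx, rfl⟩ : t * x * t⁻¹ ∈ (E.map _).map (MulAut.conj t).toMonoidHom)

theorem commutator_le_centralizer {Q : Type u} [Group Q] {F Y A : Subgroup Q}
    (hY : Y ≤ normalizer (F : Set Q)) (hA : ⁅F, A⁆ = ⊥) : ⁅Y, A⁆ ≤ centralizer (F : Set Q) := by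
  rw [← commutator_eq_bot_iff_le_centralizer]
  refine commutator_commutator_eq_bot_of_rotate ?_ ?_
  · rw [commutator_comm A F, hA, commutator_bot_left]
  · rw [← le_bot_iff, ← hA]
    exact commutator_mono (le_normalizer_iff_commutator_le_left.1 hY) le_rfl

/-- Two commuting four-groups, core-separated. -/
structure Setup (A₁ A₂ : Subgroup G) : Prop where
  e₁ : Cfsg.IsElementaryAbelian 2 A₁
  e₂ : Cfsg.IsElementaryAbelian 2 A₂
  c₁ : Nat.card A₁ = 4
  comm : ∀ x ∈ A₁, ∀ y ∈ A₂, x * y = y * x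
  sep : ∀ b ∈ A₁ ⊔ A₂, b ≠ 1 → ∀ F : Subgroup (↥(centralizer ({b} : Set G)) ⧸
      Cfsg.oddCore ↥(centralizer ({b} : Set G))), Cfsg.IsComponent F →
    ⁅F, bar b A₁⁆ = ⊥ ∨ ⁅F, bar b A₂⁆ = ⊥

variable {A₁ A₂ : Subgroup G}

theorem Setup.elem (S : Setup A₁ A₂) : Cfsg.IsElementaryAbelian 2 (A₁ ⊔ A₂) :=
  Signalizer.elemAb_sup S.e₁ S.e₂ S.comm

theorem Setup.le_cent (S : Setup A₁ A₂) {b : G} (hb : b ∈ A₁ ⊔ A₂) :
    A₁ ⊔ A₂ ≤ centralizer ({b} : Set G) := fun _ hx =>
  mem_centralizer_singleton_iff.2 (Signalizer.commute_of_isMulCommutative S.elem.1 hx hb)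

theorem sep_of_isCoreSeparated (h : Cfsg.IsCoreSeparated A₁ A₂) : Setup A₁ A₂ := by
  haveI : Fact (Nat.Prime 2) := ⟨Nat.prime_two⟩
  obtain ⟨e₁, e₂, c₁, c₂, -, -, hc, hs⟩ := h
  refine ⟨e₁, e₂, c₁, hc, fun b hb hb1 F hF => ?_⟩
  have hA : A₁ ⊔ A₂ ≤ centralizer ({b} : Set G) := fun x hx => mem_centralizer_singleton_iff.2
    (Signalizer.commute_of_isMulCommutative (Signalizer.elemAb_sup e₁ e₂ hc).1 hx hb)
  let E := Components.pComponentOf 2 F
  have hE := Components.isPComponent_pComponentOf hF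
  have hKH : E.map (centralizer ({b} : Set G)).subtype ≤ centralizer ({b} : Set G) := map_subtype_le _
  have hbarK : bar b (E.map (centralizer ({b} : Set G)).subtype) = F := by
    rw [bar, subgroupOf, comap_map_eq_self_of_injective (subtype_injective _)]
    exact Components.map_pComponentOf hF
  rcases hs b hb hb1 E hE with h | h
  · left
    rw [← hbarK, ← bar_commutator hKH (le_sup_left.trans hA)]
    exact bar_eq_bot h
  · right
    rw [← hbarK, ← bar_commutator hKH (le_sup_right.trans hA)]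
    exact bar_eq_bot h

theorem Setup.isPGroup₁ (S : Setup A₁ A₂) : IsPGroup 2 A₁ := Signalizer.isPGroup_of_elemAb S.e₁

theorem Setup.coprime₁ (S : Setup A₁ A₂) {K : Subgroup G} (hK : Odd (Nat.card K)) :
    (Nat.card A₁).Coprime (Nat.card K) := by
  rw [S.c₁, show (4 : ℕ) = 2 ^ 2 from rfl]
  exact Nat.Coprime.pow_left _ (Nat.coprime_two_left.2 hK)

/-- The key containment `[O_a ∩ C(c), A₁] ≤ O_c` for `c ∈ A₁`. -/
theorem Setup.commutator_le_core (S : Setup A₁ A₂) {a c : G} (ha : a ∈ A₁ ⊔ A₂) (ha1 : a ≠ 1)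
    (hc : c ∈ A₁) (hc1 : c ≠ 1) :
    ⁅Cfsg.centralizerPPrimeCore 2 a ⊓ centralizer ({c} : Set G), A₁⁆ ≤
      Cfsg.centralizerPPrimeCore 2 c := by
  haveI : Fact (Nat.Prime 2) := ⟨Nat.prime_two⟩
  haveI := S.e₁.1
  have hcA : c ∈ A₁ ⊔ A₂ := mem_sup_left hc
  have hA1H : A₁ ≤ centralizer ({c} : Set G) := le_sup_left.trans (S.le_cent hcA)
  have hA2H : A₂ ≤ centralizer ({c} : Set G) := le_sup_right.trans (S.le_cent hcA)
  have haH : a ∈ centralizer ({c} : Set G) := S.le_cent hcA ha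
  have hY₀H : Cfsg.centralizerPPrimeCore 2 a ⊓ centralizer ({c} : Set G) ≤
      centralizer ({c} : Set G) := inf_le_right
  have hAY₀ : A₁ ≤ normalizer ((Cfsg.centralizerPPrimeCore 2 a ⊓ centralizer ({c} : Set G) :
      Subgroup G) : Set G) :=
    Signalizer.le_normalizer_inf
      ((le_sup_left : A₁ ≤ A₁ ⊔ A₂).trans (Signalizer.invariant_core S.elem.1 ha))
      (hA1H.trans le_normalizer)
  have hoddY₀ := odd_of_le (inf_le_left : Cfsg.centralizerPPrimeCore 2 a ⊓
    centralizer ({c} : Set G) ≤ _) (odd_core a)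
  set Y₀ := Cfsg.centralizerPPrimeCore 2 a ⊓ centralizer ({c} : Set G) with hY₀def
  have hYY : ⁅Y₀, A₁⁆ ≤ Y₀ := Coprime.commutator_le_left' hAY₀
  have hY2 : ⁅⁅Y₀, A₁⁆, A₁⁆ = ⁅Y₀, A₁⁆ := Coprime.commutator_commutator_eq hAY₀
    (S.coprime₁ hoddY₀) (Or.inl (Solvable.CommFixed.solv_comm A₁))
  refine le_core_of_bar_eq_bot (hYY.trans hY₀H) ?_
  by_contra hne
  let π := QuotientGroup.mk' (Cfsg.oddCore ↥(centralizer ({c} : Set G)))
  let s := π ⟨a, haH⟩
  have ha2 : a ^ 2 = 1 := S.elem.2 a ha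
  have hs : orderOf s = 2 := by
    refine orderOf_eq_prime (by rw [← map_pow, show (⟨a, haH⟩ : centralizer ({c} : Set G)) ^ 2 = 1
      from Subtype.ext ha2, map_one]) fun h => ha1 ?_
    have h1 : (⟨a, haH⟩ : centralizer ({c} : Set G)) ∈ Cfsg.oddCore ↥(centralizer ({c} : Set G)) :=
      (QuotientGroup.eq_one_iff _).1 h
    have h2 := Nat.eq_one_of_dvd_coprimes (Cores.coprime_card_pPrimeCore 2)
      (orderOf_dvd_natCard _ h1) (orderOf_dvd_of_pow_eq_one (Subtype.ext ha2))
    exact congrArg Subtype.val (orderOf_eq_one_iff.1 h2)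
  have hbars : bar c (zpowers a) = zpowers s := by
    refine le_antisymm ?_ (zpowers_le.2 (mem_bar (mem_zpowers a) haH))
    rintro _ ⟨x, hx, rfl⟩
    obtain ⟨i, hi⟩ := mem_subgroupOf.1 hx
    exact ⟨i, by show s ^ i = π x; rw [← map_zpow]; exact congrArg π (Subtype.ext hi)⟩
  have hcs : centralizer (bar c (zpowers a) : Set _) = centralizer ({s} : Set _) := by
    rw [hbars, zpowers_eq_closure, centralizer_closure]
  obtain ⟨F, hF, hsF, hYF, hsC, hYC⟩ := exists_bad_component
    (Cores.pPrimeCore_quotient_self 2) hs (Y := bar c ⁅Y₀, A₁⁆) (Y₀ := bar c Y₀) hne (bar_mono hYY)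
    (hoddY₀.of_dvd_nat ((card_map_dvd _ _).trans (Cores.card_subgroupOf hY₀H).dvd))
    (by
      rintro _ ⟨y, hy, rfl⟩
      refine mem_centralizer_singleton_iff.2 ?_
      rw [← map_mul, ← map_mul]
      exact congrArg π (Subtype.ext (mem_centralizer_singleton_iff.1
        (Signalizer.core_le_centralizer (p := 2) a (mem_subgroupOf.1 hy).1))))
    (by
      rw [← hcs]
      refine centralizer_bar_le_normalizer (zpowers_le.2 haH)
        (Signalizer.isPGroup_zpowers_of_pow_eq_one ha2) ?_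
      refine fun x hx => Signalizer.mem_normalizer_of_conj_mem fun y hy => ?_
      refine ⟨Signalizer.conj_mem (Signalizer.centralizer_le_normalizer_core a)
        (mem_centralizer_singleton_iff.2 ((mem_centralizer_iff.1 hx.2 a (mem_zpowers a)).symm)) hy.1,
        Signalizer.conj_mem le_normalizer hx.1 hy.2⟩)
  apply hYC
  have hYeq : bar c ⁅Y₀, A₁⁆ = ⁅bar c ⁅Y₀, A₁⁆, bar c A₁⁆ := by
    rw [← bar_commutator (hYY.trans hY₀H) hA1H, hY2]
  rw [hYeq]
  rcases S.sep c hcA hc1 F hF with h | h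
  · exact commutator_le_centralizer hYF h
  -- `A₂` centralises `F`, so `A₁` acts as `⟨a⟩`
  let T := centralizer (F : Set (↥(centralizer ({c} : Set G)) ⧸ Cfsg.oddCore ↥(centralizer ({c} : Set G))))
  have hTn : ∀ x ∈ normalizer (F : Set (↥(centralizer ({c} : Set G)) ⧸ Cfsg.oddCore ↥(centralizer ({c} : Set G)))),
      x ∈ normalizer (T : Set _) := fun x hx =>
    Signalizer.le_normalizer_centralizer (A := normalizer (F : Set _)) le_rfl hx
  have hA2T : bar c A₂ ≤ T := commutator_eq_bot_iff_le_centralizer.1 (by rw [commutator_comm]; exact h)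
  have hcT : π ⟨c, hA1H hc⟩ ∈ T := by
    refine mem_centralizer_iff.2 fun f hf => ?_
    obtain ⟨g, rfl⟩ := QuotientGroup.mk'_surjective _ f
    show π g * π _ = π _ * π g
    rw [← map_mul, ← map_mul]
    exact congrArg π (Subtype.ext (mem_centralizer_singleton_iff.1 g.2))
  obtain ⟨u, hu, v, hv, huv⟩ : ∃ u ∈ A₁, ∃ v ∈ A₂, u * v = a := by
    have hnorm : A₂ ≤ normalizer (A₁ : Set G) :=
      Signalizer.le_normalizer_of_commute fun x hx y hy => (S.comm y hy x hx).symm
    have h1 : a ∈ (A₁ : Set G) * (A₂ : Set G) := by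
      rw [← Subgroup.coe_mul_of_right_le_normalizer_left A₁ A₂ hnorm]; exact ha
    obtain ⟨u, hu, v, hv, rfl⟩ := h1
    exact ⟨u, hu, v, hv, rfl⟩
  have huc : u ∉ zpowers c := by
    rintro ⟨i, hi⟩
    apply hsC
    have : s = π ⟨c, hA1H hc⟩ ^ i * π ⟨v, hA2H hv⟩ := by
      rw [← map_zpow, ← map_mul]
      refine congrArg π (Subtype.ext ?_)
      show a = c ^ i * v
      rw [← huv, ← hi]
    rw [this]
    exact T.mul_mem (T.zpow_mem hcT i) (hA2T (mem_bar hv (hA2H hv)))
  have hA1eq : zpowers c ⊔ zpowers u = A₁ := by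
    refine eq_of_le_of_card_ge (sup_le (zpowers_le.2 hc) (zpowers_le.2 hu)) ?_
    rw [Signalizer.card_sup_zpowers S.e₁ (zpowers_le.2 hc) hu huc, Nat.card_zpowers,
      orderOf_eq_prime (S.e₁.2 c hc) hc1, S.c₁]
  have hA1le : bar c A₁ ≤ T ⊔ zpowers s := by
    rintro _ ⟨⟨g, hgH⟩, hg, rfl⟩
    have hle : A₁ ≤ ((T ⊔ zpowers s).comap π).map (centralizer ({c} : Set G)).subtype := by
      rw [← hA1eq, sup_le_iff, zpowers_le, zpowers_le]
      refine ⟨⟨⟨c, hA1H hc⟩, mem_sup_left hcT, rfl⟩, ⟨⟨u, hA1H hu⟩, ?_, rfl⟩⟩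
      show π ⟨u, hA1H hu⟩ ∈ T ⊔ zpowers s
      have : (⟨u, hA1H hu⟩ : centralizer ({c} : Set G)) = ⟨a, haH⟩ * ⟨v, hA2H hv⟩⁻¹ :=
        Subtype.ext (by show u = a * v⁻¹; rw [← huv]; group)
      rw [this, map_mul, map_inv]
      exact mul_mem (mem_sup_right (mem_zpowers s))
        (mem_sup_left (T.inv_mem (hA2T (mem_bar hv (hA2H hv)))))
    obtain ⟨y, hy, hyg⟩ := hle hg
    obtain rfl : y = ⟨g, hgH⟩ := Subtype.ext hyg
    exact hy
  rw [commutator_le]
  intro y hy g hg
  have hgs := hA1le hg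
  rw [← SetLike.mem_coe, Subgroup.coe_mul_of_right_le_normalizer_left T (zpowers s)
    (zpowers_le.2 (hTn s hsF))] at hgs
  obtain ⟨w, hw, z, ⟨i, rfl⟩, rfl⟩ := hgs
  have hys : y * s ^ i = s ^ i * y := by
    have hy' : y ∈ bar c Y₀ := bar_mono hYY hy
    obtain ⟨y', hy', rfl⟩ := hy'
    refine ((show Commute (π y') s from ?_).zpow_right i).eq
    show π y' * π _ = π _ * π y'
    rw [← map_mul, ← map_mul]
    exact congrArg π (Subtype.ext (mem_centralizer_singleton_iff.1
      (Signalizer.core_le_centralizer (p := 2) a (mem_subgroupOf.1 hy').1)))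
  show ⁅y, w * s ^ i⁆ ∈ T
  rw [show ⁅y, w * s ^ i⁆ = (y * w * y⁻¹) * w⁻¹ by
    rw [commutatorElement_def, mul_inv_rev]
    calc y * (w * s ^ i) * y⁻¹ * ((s ^ i)⁻¹ * w⁻¹) =
        y * w * ((s ^ i * y) * y⁻¹ * y⁻¹ * (s ^ i)⁻¹) * w⁻¹ := by group
      _ = y * w * ((y * s ^ i) * y⁻¹ * y⁻¹ * (s ^ i)⁻¹) * w⁻¹ := by rw [hys]
      _ = _ := by
        rw [show (y * s ^ i) * y⁻¹ = s ^ i by rw [hys, mul_inv_cancel_right]]
        rw [show s ^ i * y⁻¹ = y⁻¹ * s ^ i from
          (((show Commute y (s ^ i) from hys).inv_left).eq).symm]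
        group]
  exact T.mul_mem (Signalizer.conj_mem (le_refl _) (hTn y (hYF hy)) hw) (T.inv_mem hw)

/-- One factor of the functor. -/
def part (P : Subgroup G) (a : G) : Subgroup G :=
  ⁅Cfsg.centralizerPPrimeCore 2 a, P⁆ ⊔ (Cfsg.centralizerPPrimeCore 2 a ⊓ oddCent P)

theorem Setup.part_le (S : Setup A₁ A₂) {a : G} (ha : a ∈ A₁ ⊔ A₂) :
    part A₁ a ≤ Cfsg.centralizerPPrimeCore 2 a :=
  sup_le (Coprime.commutator_le_left'
    ((le_sup_left : A₁ ≤ A₁ ⊔ A₂).trans (Signalizer.invariant_core S.elem.1 ha))) inf_le_left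

theorem Setup.part_invariant (S : Setup A₁ A₂) {a : G} (ha : a ∈ A₁ ⊔ A₂) :
    A₁ ⊔ A₂ ≤ normalizer (part A₁ a : Set G) :=
  Signalizer.le_normalizer_sup
    (Coprime.le_normalizer_commutator (Signalizer.invariant_core S.elem.1 ha)
      (Signalizer.le_normalizer_of_commute fun _ hx _ hy =>
        Signalizer.commute_of_isMulCommutative S.elem.1 hx (mem_sup_left hy)))
    (Signalizer.le_normalizer_inf (Signalizer.invariant_core S.elem.1 ha)
      (le_trans (fun _ hx => mem_centralizer_iff.2 fun _ hy =>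
        Signalizer.commute_of_isMulCommutative S.elem.1 (mem_sup_left hy) hx)
        (centralizer_le_normalizer_oddCent A₁)))

theorem Setup.part_inf_le (S : Setup A₁ A₂)
    (hodd : ∀ {H : Type u} [Group H] [Finite H], Odd (Nat.card H) → Group.IsSolvable H)
    {a : G} (ha : a ∈ A₁ ⊔ A₂) (ha1 : a ≠ 1) :
    part A₁ a ⊓ centralizer (A₁ : Set G) ≤ oddCent A₁ := by
  haveI : Fact (Nat.Prime 2) := ⟨Nat.prime_two⟩
  haveI := S.e₁.1
  let O := Cfsg.centralizerPPrimeCore 2 a
  have hAO : A₁ ≤ normalizer (O : Set G) :=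
    (le_sup_left : A₁ ≤ A₁ ⊔ A₂).trans (Signalizer.invariant_core S.elem.1 ha)
  have hYle : ⁅O, A₁⁆ ≤ O := Coprime.commutator_le_left' hAO
  have hYodd := odd_of_le hYle (odd_core a)
  refine (Signalizer.inf_centralizer_sup S.isPGroup₁ (normalizer_commutator_ge_right O A₁)
    (Signalizer.le_normalizer_inf hAO (le_trans (fun _ hx => mem_centralizer_iff.2 fun _ hy =>
      Signalizer.commute_of_isMulCommutative S.e₁.1 hy hx) (centralizer_le_normalizer_oddCent A₁)))
    (inf_le_left.trans (normalizer_commutator_ge_left O A₁))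
    (fun h => Nat.not_even_iff_odd.2 (odd_of_le inf_le_left hYodd) (even_iff_two_dvd.2 h))).trans
    (sup_le ?_ (inf_le_left.trans inf_le_right))
  rw [Solvable.CommFixed.inf_centralizer_eq_iSup (hodd hYodd) (normalizer_commutator_ge_right O A₁)
    (S.coprime₁ hYodd)
    (Coprime.commutator_commutator_eq hAO (S.coprime₁ (odd_core a))
      (Or.inl (Solvable.CommFixed.solv_comm A₁))) (le_refl A₁)]
  refine iSup_le fun ⟨B, hB, hcyc⟩ => ?_
  obtain ⟨c, hc, hc1⟩ : ∃ c ∈ B, c ≠ 1 := by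
    refine B.bot_or_exists_ne_one.resolve_left ?_
    rintro rfl
    haveI hn : ((⊥ : Subgroup G).subgroupOf A₁).Normal := by
      rw [bot_subgroupOf]; infer_instance
    have hc : IsCyclic (↥A₁ ⧸ (⊥ : Subgroup G).subgroupOf A₁) := hcyc
    have h1 : IsCyclic A₁ := isCyclic_of_injective
      (QuotientGroup.mk' ((⊥ : Subgroup G).subgroupOf A₁))
      (by rw [← MonoidHom.ker_eq_bot_iff, QuotientGroup.ker_mk', bot_subgroupOf])
    obtain ⟨g, hg⟩ := h1.exists_generator
    have h2 : orderOf g = Nat.card A₁ := orderOf_eq_card_of_forall_mem_zpowers hg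
    have h3 := orderOf_dvd_of_pow_eq_one (show g ^ 2 = 1 from Subtype.ext (S.e₁.2 g g.2))
    rw [h2, S.c₁] at h3
    norm_num at h3
  have hle : ⁅⁅O, A₁⁆ ⊓ centralizer (B : Set G), A₁⁆ ≤ Cfsg.centralizerPPrimeCore 2 c :=
    (commutator_mono (inf_le_inf hYle (Signalizer.centralizer_le_singleton hc)) le_rfl).trans
      (S.commutator_le_core ha ha1 (hB hc) hc1)
  refine le_trans ?_ (le_oddCent (W := Cfsg.centralizerPPrimeCore 2 c ⊓ centralizer (A₁ : Set G))
    inf_le_right (odd_of_le inf_le_left (odd_core c)) ?_)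
  · exact le_inf (inf_le_right.trans hle) (inf_le_left.trans inf_le_right)
  · exact Signalizer.le_normalizer_inf
      ((Signalizer.centralizer_le_singleton (hB hc)).trans (Signalizer.centralizer_le_normalizer_core c))
      le_normalizer

/-- `θ a ∩ C(b) ≤ O(C(b))`. -/
theorem Setup.inf_le_core (S : Setup A₁ A₂) (S' : Setup A₂ A₁)
    (hodd : ∀ {H : Type u} [Group H] [Finite H], Odd (Nat.card H) → Group.IsSolvable H)
    {a b : G} (ha : a ∈ A₁ ⊔ A₂) (ha1 : a ≠ 1) (hb : b ∈ A₁ ⊔ A₂) (hb1 : b ≠ 1) :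
    (part A₁ a ⊓ part A₂ a) ⊓ centralizer ({b} : Set G) ≤ Cfsg.centralizerPPrimeCore 2 b := by
  haveI : Fact (Nat.Prime 2) := ⟨Nat.prime_two⟩
  haveI := S.e₁.1
  haveI := S'.e₁.1
  have ha' : a ∈ A₂ ⊔ A₁ := sup_comm A₁ A₂ ▸ ha
  have hAH : A₁ ⊔ A₂ ≤ centralizer ({b} : Set G) := S.le_cent hb
  have haH := hAH ha
  set X := (part A₁ a ⊓ part A₂ a) ⊓ centralizer ({b} : Set G) with hXdef
  have hXO : X ≤ Cfsg.centralizerPPrimeCore 2 a :=
    (inf_le_left.trans inf_le_left).trans (S.part_le ha)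
  have hXodd := odd_of_le hXO (odd_core a)
  have hAX : A₁ ⊔ A₂ ≤ normalizer (X : Set G) :=
    Signalizer.le_normalizer_inf (Signalizer.le_normalizer_inf (S.part_invariant ha)
      (sup_comm A₂ A₁ ▸ S'.part_invariant ha')) (hAH.trans le_normalizer)
  have hXH : X ≤ centralizer ({b} : Set G) := inf_le_right
  refine le_core_of_bar_eq_bot hXH ?_
  by_contra hne
  let π := QuotientGroup.mk' (Cfsg.oddCore ↥(centralizer ({b} : Set G)))
  let s := π ⟨a, haH⟩
  have ha2 : a ^ 2 = 1 := S.elem.2 a ha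
  have hs : orderOf s = 2 := by
    refine orderOf_eq_prime (by rw [← map_pow, show (⟨a, haH⟩ : centralizer ({b} : Set G)) ^ 2 = 1
      from Subtype.ext ha2, map_one]) fun h => ha1 ?_
    have h1 : (⟨a, haH⟩ : centralizer ({b} : Set G)) ∈ Cfsg.oddCore ↥(centralizer ({b} : Set G)) :=
      (QuotientGroup.eq_one_iff _).1 h
    have h2 := Nat.eq_one_of_dvd_coprimes (Cores.coprime_card_pPrimeCore 2)
      (orderOf_dvd_natCard _ h1) (orderOf_dvd_of_pow_eq_one (Subtype.ext ha2))
    exact congrArg Subtype.val (orderOf_eq_one_iff.1 h2)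
  let N₀ := Cfsg.centralizerPPrimeCore 2 a ⊓ centralizer ({b} : Set G)
  have hN₀H : N₀ ≤ centralizer ({b} : Set G) := inf_le_right
  obtain ⟨F, hF, -, hYF, -, hYC⟩ := exists_bad_component
    (Cores.pPrimeCore_quotient_self 2) hs (Y := bar b X) (Y₀ := bar b N₀) hne
    (bar_mono (le_inf hXO hXH))
    ((odd_of_le inf_le_left (odd_core a)).of_dvd_nat
      ((card_map_dvd _ _).trans (Cores.card_subgroupOf hN₀H).dvd))
    (by
      rintro _ ⟨y, hy, rfl⟩
      refine mem_centralizer_singleton_iff.2 ?_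
      rw [← map_mul, ← map_mul]
      exact congrArg π (Subtype.ext (mem_centralizer_singleton_iff.1
        (Signalizer.core_le_centralizer (p := 2) a (mem_subgroupOf.1 hy).1))))
    (by
      refine le_trans ?_ (centralizer_bar_le_normalizer (P := zpowers a) (zpowers_le.2 haH)
        (Signalizer.isPGroup_zpowers_of_pow_eq_one ha2) ?_)
      · intro x hx
        refine mem_centralizer_iff.2 ?_
        rintro _ ⟨z, hz, rfl⟩
        obtain ⟨i, hi⟩ := mem_subgroupOf.1 hz
        have : π z = s ^ i := by rw [← map_zpow]; exact congrArg π (Subtype.ext hi.symm)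
        show π z * x = x * π z
        rw [this]
        exact ((show Commute x s from mem_centralizer_singleton_iff.1 hx).zpow_right i).symm.eq
      · refine fun x hx => Signalizer.mem_normalizer_of_conj_mem fun y hy => ?_
        exact ⟨Signalizer.conj_mem (Signalizer.centralizer_le_normalizer_core a)
          (mem_centralizer_singleton_iff.2 ((mem_centralizer_iff.1 hx.2 a (mem_zpowers a)).symm)) hy.1,
          Signalizer.conj_mem le_normalizer hx.1 hy.2⟩)
  apply hYC
  -- whichever four-group centralises `F`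
  have key : ∀ P : Subgroup G, P ≤ A₁ ⊔ A₂ → IsMulCommutative P →
      X ⊓ centralizer (P : Set G) ≤ oddCent P → ⁅F, bar b P⁆ = ⊥ →
      bar b X ≤ centralizer (F : Set _) := by
    intro P hP hPc hXP hFP
    haveI := hPc
    have hPH : P ≤ centralizer ({b} : Set G) := hP.trans hAH
    have hP2 : IsPGroup 2 P := (Signalizer.isPGroup_of_elemAb S.elem).to_le hP
    have hcop : (Nat.card P).Coprime (Nat.card X) := by
      obtain ⟨k, hk⟩ := IsPGroup.iff_card.1 hP2
      rw [hk]
      exact Nat.Coprime.pow_left _ (Nat.coprime_two_left.2 hXodd)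
    have hsup := Coprime.commutator_sup_centralizer (hP.trans hAX) hcop
      (Or.inl (Solvable.CommFixed.solv_comm P))
    have h1 : ⁅X, P⁆ ≤ centralizer ({b} : Set G) :=
      (Coprime.commutator_le_left' (hP.trans hAX)).trans hXH
    have hbar : bar b X = bar b ⁅X, P⁆ ⊔ bar b (X ⊓ centralizer (P : Set G)) := by
      conv_lhs => rw [← hsup]
      rw [bar, bar, bar, ← Subgroup.map_sup, subgroupOf_sup h1 (inf_le_left.trans hXH)]
    rw [hbar]
    refine sup_le ?_ ?_
    · rw [bar_commutator hXH hPH]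
      exact commutator_le_centralizer hYF hFP
    · refine (bar_mono (b := b) (le_inf hXP (inf_le_left.trans hXH))).trans ?_
      let N := oddCent P ⊓ centralizer ({b} : Set G)
      have hN : F ≤ normalizer (bar b N : Set _) := by
        refine le_trans ?_ (centralizer_bar_le_normalizer hPH hP2 ?_)
        · exact commutator_eq_bot_iff_le_centralizer.1 hFP
        · exact fun x hx => Signalizer.mem_normalizer_of_conj_mem fun y hy =>
            ⟨Signalizer.conj_mem (centralizer_le_normalizer_oddCent P) hx.2 hy.1,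
              Signalizer.conj_mem le_normalizer hx.1 hy.2⟩
      have hsolv : Group.IsSolvable ↥(bar b N) :=
        hodd ((odd_of_le inf_le_left (odd_oddCent P)).of_dvd_nat
          ((card_map_dvd _ _).trans (Cores.card_subgroupOf inf_le_right).dvd))
      rw [← commutator_eq_bot_iff_le_centralizer, commutator_comm]
      exact Components.IsComponent.commutator_solvable hF hsolv hN
  rcases S.sep b hb hb1 F hF with h | h
  · exact key A₁ le_sup_left S.e₁.1
      ((inf_le_inf_right _ (inf_le_left.trans inf_le_left)).trans (S.part_inf_le hodd ha ha1)) h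
  · exact key A₂ le_sup_right S'.e₁.1
      ((inf_le_inf_right _ (inf_le_left.trans inf_le_right)).trans (S'.part_inf_le hodd ha' ha1)) h

/-- Balance into one factor. -/
theorem Setup.inf_le_part (S : Setup A₁ A₂)
    (hodd : ∀ {H : Type u} [Group H] [Finite H], Odd (Nat.card H) → Group.IsSolvable H)
    {a b : G} (ha : a ∈ A₁ ⊔ A₂) (ha1 : a ≠ 1) {X : Subgroup G} (hXa : X ≤ part A₁ a)
    (hXb : X ≤ Cfsg.centralizerPPrimeCore 2 b) (hAX : A₁ ≤ normalizer (X : Set G)) :
    X ≤ part A₁ b := by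
  haveI := S.e₁.1
  rw [← Coprime.commutator_sup_centralizer hAX (S.coprime₁ (odd_of_le hXb (odd_core b)))
    (Or.inl (Solvable.CommFixed.solv_comm A₁))]
  exact sup_le ((commutator_mono hXb le_rfl).trans le_sup_left)
    (le_trans (le_inf (inf_le_left.trans hXb)
      ((inf_le_inf_right _ hXa).trans (S.part_inf_le hodd ha ha1))) le_sup_right)

theorem isSignalizerFunctor_coreSeparated (h : Cfsg.IsCoreSeparated A₁ A₂)
    (hodd : ∀ {H : Type u} [Group H] [Finite H], Odd (Nat.card H) → Group.IsSolvable H) :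
    Cfsg.IsSignalizerFunctor 2 (A₁ ⊔ A₂) (fun a => part A₁ a ⊓ part A₂ a) := by
  obtain ⟨S, S'⟩ : Setup A₁ A₂ ∧ Setup A₂ A₁ := by
    have S := sep_of_isCoreSeparated h
    obtain ⟨-, e₂, -, c₂, -, -, hc, -⟩ := h
    exact ⟨S, e₂, S.e₁, c₂, fun x hx y hy => (hc y hy x hx).symm,
      fun b hb hb1 F hF => (S.sep b (sup_comm A₂ A₁ ▸ hb) hb1 F hF).symm⟩
  have hswap : ∀ {a : G}, a ∈ A₁ ⊔ A₂ → a ∈ A₂ ⊔ A₁ := fun ha => sup_comm A₁ A₂ ▸ ha
  refine ⟨fun a ha _ => (inf_le_left.trans (S.part_le ha)).trans (Signalizer.core_le_centralizer a),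
    fun a ha _ h2 => ?_, fun a ha _ b hb x hx => ?_, fun a ha ha1 b hb hb1 => ?_⟩
  · exact Nat.not_even_iff_odd.2 (odd_of_le (inf_le_left.trans (S.part_le ha)) (odd_core a))
      (even_iff_two_dvd.2 h2)
  · exact ⟨Signalizer.conj_mem (S.part_invariant ha) hb hx.1,
      Signalizer.conj_mem (S'.part_invariant (hswap ha)) (hswap hb) hx.2⟩
  · have hAX : A₁ ⊔ A₂ ≤ normalizer
        (((part A₁ a ⊓ part A₂ a) ⊓ centralizer ({b} : Set G) : Subgroup G) : Set G) :=
      Signalizer.le_normalizer_inf (Signalizer.le_normalizer_inf (S.part_invariant ha)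
        (sup_comm A₂ A₁ ▸ S'.part_invariant (hswap ha))) ((S.le_cent hb).trans le_normalizer)
    exact le_inf
      (S.inf_le_part hodd ha ha1 (inf_le_left.trans inf_le_left) (S.inf_le_core S' hodd ha ha1 hb hb1)
        (le_sup_left.trans hAX))
      (S'.inf_le_part hodd (hswap ha) ha1 (inf_le_left.trans inf_le_right)
        (S.inf_le_core S' hodd ha ha1 hb hb1) (le_sup_right.trans hAX))

end Cfsg.Agent.CoreSep
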